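import Cfsg.Agent.TwistInvol.DataE6
import Cfsg.Agent.TwistInvol.Bits
import Cfsg.Prelude.Def_ChevE6

/-!
# The row operations of the root elements of `E₆` modulo two
-/

set_option autoImplicit false
set_option maxRecDepth 20000

namespace CfsgLib.ESixFive

open Cfsg.Lie CfsgLib.TwistInvol

theorem ops_ok : chkOps chevE6 TwistInvol.E6.ops = true := by decide +kernel

end CfsgLib.ESixFive
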