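import Cfsg.Agent.ESixFive.Data
import Cfsg.Agent.ESixFive.Ops
import Cfsg.Agent.TwistInvol.Words
import Cfsg.Agent.GraphTwist.OrderE6
import Mathlib.GroupTheory.Sylow

/-!
# The elements of order five of `²E₆(2)` form one class

A Sylow subgroup of order 25 whose non-trivial elements are conjugate, by kernel-checked words.
-/

set_option autoImplicit false
set_option maxRecDepth 20000
set_option linter.style.haveILetI false

namespace CfsgLib.ESixFive

open Cfsg.Lie CfsgLib.Chevalley CfsgLib.GraphTwist CfsgLib.UniInvol CfsgLib.TwistInvol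
open scoped MatrixGroups

/-- The product of the root elements of a word, with parameter one. -/
abbrev P (K : Type*) [Field K] (L : List ℕ) : GL chevE6.Idx K := pat K setupE6.good L

/-- `a ^ i * b ^ j` as a word. -/
def powW (i j : ℕ) : List ℕ := (List.replicate i wa).flatten ++ (List.replicate j wb).flatten

theorem blocks_ok : ((wa ++ wb).all fun r =>
    decide (r < 72) && decide (cfgE6.orbN r = [r])) = true := by
  decide +kernel

theorem rel_ok :
    (chkSame chevE6 TwistInvol.E6.ops (powW 5 0) [] && chkSame chevE6 TwistInvol.E6.ops (powW 0 5) [] &&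
      chkSame chevE6 TwistInvol.E6.ops (wa ++ wb) (wb ++ wa) &&
      (bY 78 TwistInvol.E6.ops wa).testBit 7) = true := by
  decide +kernel

theorem fusion_ok : ((List.range 5).all fun i => (List.range 5).all fun j =>
    decide (i = 0 ∧ j = 0) || fusion.any fun e => decide (e.1 = i ∧ e.2.1 = j) &&
      chkTwistConj cfgE6 TwistInvol.E6.ops e.2.2 wa (powW i j)) = true := by
  decide +kernel

variable {K : Type*} [Field K] [CharP K 2]

theorem P_powW (i j : ℕ) : P K (powW i j) = P K wa ^ i * P K wb ^ j := by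
  have h : ∀ (w : List ℕ) (n : ℕ), P K (List.replicate n w).flatten = P K w ^ n := by
    intro w n
    induction n with
    | zero => simp [P]
    | succ n ih => rw [List.replicate_succ, List.flatten_cons, P, pat_append, pow_succ', ← ih]
  rw [powW, P, pat_append]
  exact congrArg₂ (· * ·) (h wa i) (h wb j)

theorem wa_ne_one : P K wa ≠ 1 := by
  intro e
  have h := coe_pat_eq_bMat (F := K) (hW := setupE6.good) ops_ok wa
    (fun r hr => by
      have := List.all_eq_true.1 blocks_ok r (List.mem_append_left _ hr)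
      simp only [Bool.and_eq_true, decide_eq_true_eq] at this
      exact this.1)
  have h0 := congrFun (congrFun h (Sum.inl ⟨0, by decide⟩)) (Sum.inr ⟨1, by decide⟩)
  have hb := rel_ok
  simp only [Bool.and_eq_true] at hb
  have e1 : ((pat K setupE6.good wa : GL chevE6.Idx K) : Matrix chevE6.Idx chevE6.Idx K) = 1 := by
    rw [show pat K setupE6.good wa = 1 from e, Units.val_one]
  have e2 : bMat K chevE6.rank chevE6.nroots (bY (chevE6.rank + chevE6.nroots) TwistInvol.E6.ops wa)
      (Sum.inl ⟨0, by decide⟩) (Sum.inr ⟨1, by decide⟩) = 1 := by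
    show bitF K (bY 78 TwistInvol.E6.ops wa) 7 = 1
    rw [bitF, hb.2, if_pos rfl]
  rw [e1, Matrix.one_apply_ne (by simp), e2] at h0
  exact zero_ne_one h0

variable (Φ : FieldTwist setupE6 K) [Finite K]

theorem P_mem_tG {L : List ℕ} (hL : L.all (fun r => decide (r < 72) && decide (cfgE6.orbN r = [r])) = true) :
    P K L ∈ Φ.tG := by
  simp only [List.all_eq_true, Bool.and_eq_true, decide_eq_true_eq] at hL
  have h := pat_orbL_mem Φ setupE6_faithful (R := L) fun r hr => (hL r hr).1
  have e : orbL chevE6 setupE6.cfg L = L := by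
    show L.flatMap cfgE6.orbN = L
    rw [List.flatMap_def, List.map_congr_left (g := fun r => [r]) fun r hr => (hL r hr).2]
    exact List.flatMap_singleton' L
  rwa [e] at h

/-- The first generator. -/
noncomputable def ea : ↥Φ.tG :=
  ⟨P K wa, P_mem_tG Φ (by have := blocks_ok; rw [List.all_append, Bool.and_eq_true] at this; exact this.1)⟩

/-- The second generator. -/
noncomputable def eb : ↥Φ.tG :=
  ⟨P K wb, P_mem_tG Φ (by have := blocks_ok; rw [List.all_append, Bool.and_eq_true] at this; exact this.2)⟩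

theorem ea_eb : ea Φ ^ 5 = 1 ∧ eb Φ ^ 5 = 1 ∧ Commute (ea Φ) (eb Φ) ∧ ea Φ ≠ 1 := by
  have h := rel_ok
  simp only [Bool.and_eq_true] at h
  obtain ⟨⟨⟨h1, h2⟩, h3⟩, -⟩ := h
  refine ⟨Subtype.ext ?_, Subtype.ext ?_, Subtype.ext ?_, fun e => wa_ne_one (congrArg Subtype.val e)⟩
  · have := pat_eq_of_chkSame (F := K) (hW := setupE6.good) ops_ok h1
    rw [← P, P_powW, pow_zero, mul_one, pat_nil] at this
    exact this
  · have := pat_eq_of_chkSame (F := K) (hW := setupE6.good) ops_ok h2
    rw [← P, P_powW, pow_zero, one_mul, pat_nil] at this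
    exact this
  · have := pat_eq_of_chkSame (F := K) (hW := setupE6.good) ops_ok h3
    rw [pat_append, pat_append] at this
    exact this

theorem isConj_pow {i j : ℕ} (hi : i < 5) (hj : j < 5) (hne : ¬ (i = 0 ∧ j = 0)) :
    IsConj (ea Φ) (ea Φ ^ i * eb Φ ^ j) := by
  have h := fusion_ok
  simp only [List.all_eq_true, List.mem_range, Bool.or_eq_true, decide_eq_true_eq, List.any_eq_true,
    Bool.and_eq_true] at h
  rcases h i hi j hj with h0 | ⟨e, -, -, hc⟩
  · exact absurd h0 hne
  obtain ⟨g, hg, hx⟩ := exists_conj_of_chk Φ setupE6_faithful ops_ok hc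
  refine isConj_iff.2 ⟨⟨g, hg⟩, Subtype.ext ?_⟩
  rw [← P, ← P, P_powW] at hx
  exact hx

/-- The cyclic group of order five as powers of an element. -/
noncomputable def zpowHom {G : Type*} [Group G] (x : G) (hx : x ^ 5 = 1) :
    Multiplicative (ZMod 5) →* G where
  toFun k := x ^ (Multiplicative.toAdd k).val
  map_one' := by simp
  map_mul' a b := by
    rw [toAdd_mul, ZMod.val_add, ← pow_eq_pow_mod _ hx, pow_add]

/-- The two generators together. -/
noncomputable def fiveHom : Multiplicative (ZMod 5) × Multiplicative (ZMod 5) →* ↥Φ.tG :=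
  MonoidHom.noncommCoprod (zpowHom _ (ea_eb Φ).1) (zpowHom _ (ea_eb Φ).2.1)
    fun _ _ => ((ea_eb Φ).2.2.1.pow_pow _ _)

theorem fiveHom_apply (k : Multiplicative (ZMod 5) × Multiplicative (ZMod 5)) :
    fiveHom Φ k = ea Φ ^ (Multiplicative.toAdd k.1).val * eb Φ ^ (Multiplicative.toAdd k.2).val := rfl

theorem isConj_fiveHom {k : Multiplicative (ZMod 5) × Multiplicative (ZMod 5)} (hk : k ≠ 1) :
    IsConj (ea Φ) (fiveHom Φ k) := by
  rw [fiveHom_apply]
  refine isConj_pow Φ (ZMod.val_lt _) (ZMod.val_lt _) fun h => hk ?_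
  rw [ZMod.val_eq_zero, ZMod.val_eq_zero] at h
  exact Prod.ext h.1 h.2

theorem fiveHom_injective : Function.Injective (fiveHom Φ) := by
  refine (injective_iff_map_eq_one _).2 fun k hk => by_contra fun hne => (ea_eb Φ).2.2.2 ?_
  exact isConj_one_left.1 (hk ▸ isConj_fiveHom Φ hne)

omit [CharP K 2] in
theorem natCard_tG_two (hK : Nat.card K = 4) (e : twistedE6 K 2 = Φ.tG) :
    3 * Nat.card ↥Φ.tG = 2 ^ 36 * (2 ^ 2 - 1) * (2 ^ 5 + 1) * (2 ^ 6 - 1) * (2 ^ 8 - 1) *
      (2 ^ 9 + 1) * (2 ^ 12 - 1) := by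
  letI := Fintype.ofFinite K
  rw [← e, ← natCard_twistedE6 (K := K) (q := 2) Nat.prime_two.isPrimePow
    (by rw [← Nat.card_eq_fintype_card, hK]; norm_num)]
  rfl

variable (hK : Nat.card K = 4) (e : twistedE6 K 2 = Φ.tG)
include hK e

omit [CharP K 2] in
theorem factorization_five : (Nat.card ↥Φ.tG).factorization 5 = 2 := by
  have h := natCard_tG_two Φ hK e
  obtain ⟨m, hm, hm5⟩ : ∃ m, Nat.card ↥Φ.tG = 5 ^ 2 * m ∧ ¬ 5 ∣ m :=
    ⟨Nat.card ↥Φ.tG / 25, by norm_num at h ⊢; omega, by norm_num at h ⊢; omega⟩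
  rw [hm, Nat.factorization_mul (by norm_num) (by rintro rfl; exact hm5 (dvd_zero _)),
    Finsupp.add_apply, Nat.factorization_pow, Nat.factorization_eq_zero_of_not_dvd hm5,
    Finsupp.smul_apply, Nat.Prime.factorization_self (by norm_num)]
  rfl

/-- The Sylow subgroup. -/
noncomputable def sylowFive [Fact (Nat.Prime 5)] : Sylow 5 ↥Φ.tG :=
  Sylow.ofCard (fiveHom Φ).range (by
    rw [factorization_five Φ hK e, ← Nat.card_congr (MonoidHom.ofInjective (fiveHom_injective Φ)).toEquiv,
      Nat.card_prod, Nat.card_eq_fintype_card]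
    rfl)

/-- Every element of order five is conjugate to the first generator. -/
theorem isConj_ea {y : ↥Φ.tG} (hy : orderOf y = 5) : IsConj (ea Φ) y := by
  haveI : Fact (Nat.Prime 5) := ⟨by norm_num⟩
  obtain ⟨S, hS⟩ := (IsPGroup.of_card (n := 1) (p := 5) (G := Subgroup.zpowers y)
    (by rw [Nat.card_zpowers, hy, pow_one])).exists_le_sylow
  obtain ⟨g, hg⟩ := MulAction.exists_smul_eq ↥Φ.tG S (sylowFive Φ hK e)
  have hmem : g * y * g⁻¹ ∈ (fiveHom Φ).range := by
    have h1 : MulAut.conj g • y ∈ ((g • S : Sylow 5 ↥Φ.tG) : Subgroup ↥Φ.tG) :=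
      Subgroup.smul_mem_pointwise_smul y _ _ (hS (Subgroup.mem_zpowers y))
    rw [hg] at h1
    exact h1
  obtain ⟨k, hk⟩ := hmem
  have hne : k ≠ 1 := fun h1 => by
    rw [h1, map_one, eq_comm, conj_eq_one_iff] at hk
    rw [hk, orderOf_one] at hy
    omega
  have := isConj_fiveHom Φ hne
  rw [hk] at this
  exact this.trans (isConj_iff.2 ⟨g⁻¹, by group⟩)

/-- The centraliser of the first generator determines the number of elements of order five modulo
five. -/
theorem index_mod_five :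
    (Subgroup.centralizer ({ea Φ} : Set ↥Φ.tG)).index % 5 = 4 := by
  haveI : Fact (Nat.Prime 5) := ⟨by norm_num⟩
  set S := sylowFive Φ hK e with hS
  let Ω := MulAction.orbit (ConjAct ↥Φ.tG) (ea Φ)
  let P' : Subgroup (ConjAct ↥Φ.tG) := (S : Subgroup ↥Φ.tG).map ConjAct.toConjAct.toMonoidHom
  have hP : IsPGroup 5 P' := S.2.map _
  have hfix : ∀ y : Ω, y ∈ MulAction.fixedPoints P' Ω ↔ (y : ↥Φ.tG) ∈ (S : Subgroup ↥Φ.tG) := by
    intro y
    have h5 : orderOf (y : ↥Φ.tG) = 5 := by
      obtain ⟨c, hc⟩ := isConj_iff.1 (ConjAct.mem_orbit_conjAct.1 y.2).symm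
      rw [← hc, orderOf_eq_prime_iff]
      refine ⟨by rw [conj_pow, (ea_eb Φ).1]; group, fun h => (ea_eb Φ).2.2.2 ?_⟩
      exact conj_eq_one_iff.1 h
    constructor
    · intro hy
      have hc : ∀ s ∈ (S : Subgroup ↥Φ.tG), s * (y : ↥Φ.tG) = (y : ↥Φ.tG) * s := fun s hs => by
        have := congrArg Subtype.val (hy ⟨ConjAct.toConjAct s, _, hs, rfl⟩)
        exact mul_inv_eq_iff_eq_mul.1 this
      have hZ : IsPGroup 5 (Subgroup.zpowers (y : ↥Φ.tG)) :=
        IsPGroup.of_card (n := 1) (by rw [Nat.card_zpowers, h5, pow_one])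
      have hle : Subgroup.zpowers (y : ↥Φ.tG) ≤ Subgroup.normalizer ((S : Subgroup ↥Φ.tG) : Set ↥Φ.tG) := by
        rw [Subgroup.zpowers_le]
        refine Subgroup.mem_normalizer_iff.2 fun s => ⟨fun hs => ?_, fun hs => ?_⟩
        · rw [← hc s hs, mul_inv_cancel_right]; exact hs
        · have := hc _ hs
          rw [inv_mul_cancel_right, ← mul_assoc] at this
          have h2 := mul_left_cancel (show (y : ↥Φ.tG) * s = (y : ↥Φ.tG) * ((y : ↥Φ.tG) * s * (y : ↥Φ.tG)⁻¹) by
            rw [← mul_assoc]; exact this)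
          rw [h2]; exact hs
      rw [← S.is_maximal' (IsPGroup.to_sup_of_normal_right' hZ S.2 hle) le_sup_right]
      exact Subgroup.mem_sup_left (Subgroup.mem_zpowers _)
    · rintro hy ⟨_, s, hs, rfl⟩
      refine Subtype.ext ?_
      show s * (y : ↥Φ.tG) * s⁻¹ = y
      obtain ⟨k, hk⟩ := hy
      obtain ⟨l, rfl⟩ := hs
      rw [← hk, ← map_mul, mul_comm, map_mul, mul_inv_cancel_right]
  have hcard : Nat.card (MulAction.fixedPoints P' Ω) = 24 := by
    have hrange : ∀ k : {k : Multiplicative (ZMod 5) × Multiplicative (ZMod 5) // k ≠ 1},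
        fiveHom Φ k.1 ∈ Ω := fun k => ConjAct.mem_orbit_conjAct.2 (isConj_fiveHom Φ k.2).symm
    let f : {k : Multiplicative (ZMod 5) × Multiplicative (ZMod 5) // k ≠ 1} → MulAction.fixedPoints P' Ω :=
      fun k => ⟨⟨_, hrange k⟩, (hfix _).2 ⟨k.1, rfl⟩⟩
    rw [← Nat.card_eq_of_bijective f ⟨fun k l h => Subtype.ext (fiveHom_injective Φ
      (congrArg (fun z : MulAction.fixedPoints P' Ω => ((z : Ω) : ↥Φ.tG)) h)), ?_⟩,
      Nat.card_eq_fintype_card]
    · rfl
    rintro ⟨y, hy⟩
    obtain ⟨k, hk⟩ := (hfix y).1 hy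
    refine ⟨⟨k, fun h1 => ?_⟩, Subtype.ext (Subtype.ext hk)⟩
    have := ConjAct.mem_orbit_conjAct.1 y.2
    rw [← hk, h1, map_one, isConj_one_right] at this
    exact (ea_eb Φ).2.2.2 this
  have h := hP.card_modEq_card_fixedPoints Ω
  rw [hcard] at h
  rw [Nat.card_congr (MulAction.orbitEquivQuotientStabilizer (ConjAct ↥Φ.tG) (ea Φ)),
    ← Subgroup.index_eq_card, ConjAct.stabilizer_eq_centralizer] at h
  exact h

end CfsgLib.ESixFive
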