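import Cfsg.Agent.ESixFive.Torus
import Cfsg.Agent.ESixFive.Fusion
import Mathlib.FieldTheory.IsAlgClosed.AlgebraicClosure
import Mathlib.RingTheory.RootsOfUnity.Basic

/-!
# The centraliser of an element of order five in `²E₆(2)` is `5 × A₈`
-/

set_option autoImplicit false
set_option maxRecDepth 20000
set_option linter.unusedSectionVars false
set_option linter.style.haveILetI false

namespace CfsgLib.ESixFive

open Cfsg.Lie CfsgLib.Weyl CfsgLib.Chevalley CfsgLib.GraphTwist CfsgLib.UniInvol CfsgLib.TwistInvol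
open scoped MatrixGroups

local instance : Fact (Nat.Prime 2) := ⟨Nat.prime_two⟩

theorem six_pairs_ok : (sixR.all fun r => decide (r < 72) && decide (cfgE6.orbN r = [r]) &&
    [36, 35].all (fun a => decide (r ≠ a) && decide (opp chevE6 a ≠ r) &&
      decide (chevE6.commTerms a r = []))) = true := by
  decide +kernel

theorem ex_56 : ex (rt 56 : Root chevE6) = 2 := by decide +kernel

/-- Centralisers of conjugate elements are isomorphic. -/
def centralizerConj {G : Type*} [Group G] (g x : G) :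
    ↥(Subgroup.centralizer ({x} : Set G)) ≃* ↥(Subgroup.centralizer ({g * x * g⁻¹} : Set G)) where
  toFun y := ⟨g * y * g⁻¹, Subgroup.mem_centralizer_singleton_iff.2 (by
    rw [show g * (y : G) * g⁻¹ * (g * x * g⁻¹) = g * ((y : G) * x) * g⁻¹ by group,
      Subgroup.mem_centralizer_singleton_iff.1 y.2]; group)⟩
  invFun y := ⟨g⁻¹ * y * g, Subgroup.mem_centralizer_singleton_iff.2 (by
    rw [show g⁻¹ * (y : G) * g * x = g⁻¹ * ((y : G) * (g * x * g⁻¹)) * g by group,
      Subgroup.mem_centralizer_singleton_iff.1 y.2]; group)⟩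
  left_inv y := Subtype.ext (by simp [mul_assoc])
  right_inv y := Subtype.ext (by simp [mul_assoc])
  map_mul' a b := Subtype.ext (by simp [mul_assoc])

section Closed

variable {L : Type*} [Field L] [CharP L 2]

/-- The change of field from the field with two elements. -/
noncomputable def ιz : GL chevE6.Idx (ZMod 2) →* GL chevE6.Idx L :=
  Matrix.GeneralLinearGroup.map (ZMod.castHom (dvd_refl 2) L)

theorem ιz_apply (g : GL chevE6.Idx (ZMod 2)) (a b : chevE6.Idx) :
    (ιz g : GL chevE6.Idx L).1 a b = ZMod.castHom (dvd_refl 2) L (g.1 a b) := rfl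

theorem ιz_injective : Function.Injective (ιz (L := L)) := fun g h e => Units.ext (Matrix.ext fun a b =>
  (ZMod.castHom (dvd_refl 2) L).injective (by rw [← ιz_apply, ← ιz_apply, e]))

theorem map_pat {F F' : Type*} [Field F] [Field F'] (φ : F →+* F') :
    ∀ w : List ℕ, Matrix.GeneralLinearGroup.map φ (pat F setupE6.good w) = pat F' setupE6.good w
  | [] => by simp
  | r :: w => by
    rw [pat_cons, pat_cons, map_mul, map_pat φ w, xk, xk]
    congr 1
    split
    · rw [X_map, map_one]
    · exact map_one _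

theorem ιz_PZ (w : List ℕ) : ιz (PZ w) = pat L setupE6.good w := map_pat _ w

/-- The six root elements, over a larger field. -/
theorem ιz_induction {P : GL chevE6.Idx L → Prop} (hX : ∀ r : Root chevE6, (r : ℕ) ∈ sixR → P (XL r 1))
    (h1 : P 1) (hmul : ∀ a b, P a → P b → P (a * b)) (hinv : ∀ a, P a → P a⁻¹)
    {b : GL chevE6.Idx (ZMod 2)} (hb : b ∈ Bz) : P (ιz b) := by
  induction hb using Subgroup.closure_induction with
  | mem x hx =>
    obtain ⟨r, hr, rfl⟩ := hx
    have hlt : r < chevE6.nroots := (show ∀ a ∈ sixR, a < chevE6.nroots by decide) r hr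
    rw [ιz_PZ, pat_cons, pat_nil, mul_one, xk, dif_pos hlt]
    exact hX ⟨r, hlt⟩ hr
  | one => rw [map_one]; exact h1
  | mul a b _ _ ha hb => rw [map_mul]; exact hmul _ _ ha hb
  | inv a _ ha => rw [map_inv]; exact hinv _ ha

theorem commute_φ_ιz (a a' : Matrix.SpecialLinearGroup (Fin 2) L) {b : GL chevE6.Idx (ZMod 2)}
    (hb : b ∈ Bz) : Commute (φA a * φB a') (ιz b) := by
  refine ιz_induction (P := fun g => Commute (φA a * φB a') g) (fun r hr => ?_) (Commute.one_right _)
    (fun _ _ => Commute.mul_right) (fun _ h => h.inv_right) hb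
  refine Commute.mul_left (commute_φA_six (List.mem_append_right _ hr) 1 a) ?_
  have h := six_pairs_ok
  simp only [Bool.and_eq_true, List.all_eq_true, decide_eq_true_eq] at h
  have hp : ∀ x : Root chevE6, (x : ℕ) ∈ [36, 35] → ∀ s : L, Commute (XL x s) (XL r 1) := fun x hx s => by
    obtain ⟨⟨h1, h2⟩, h3⟩ := (h r hr).2 x hx
    exact commute_X h1 h2 h3 s 1
  refine sl2_induction (P := fun a' => Commute (φB a') (XL r 1)) (fun u => ?_) (fun u => ?_)
    (fun c d hc hd => by rw [map_mul]; exact hc.mul_left hd) a'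
  · rw [φB_u]; exact hp _ (by simp) u
  · rw [φB_v]; exact hp _ (by simp) u

variable (p : Param L)

theorem commute_hh {b : GL chevE6.Idx (ZMod 2)} (hb : b ∈ Bz) : Commute p.hh (ιz b) :=
  commute_φ_ιz _ _ hb

theorem commute_tt {b : GL chevE6.Idx (ZMod 2)} (hb : b ∈ Bz) : Commute p.tt (ιz b) := by
  rw [Param.tt, ← Param.φA_dM, ← Param.φB_frob_dM]
  exact commute_φ_ιz _ _ hb

theorem FF_ιz {b : GL chevE6.Idx (ZMod 2)} (hb : b ∈ Bz) : p.FF (ιz b) = ιz b := by
  refine ιz_induction (P := fun g => p.FF g = g) (fun r hr => ?_) (map_one _)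
    (fun a c ha hc => by rw [map_mul, ha, hc]) (fun a ha => by rw [map_inv, ha]) hb
  rw [p.FF_six (List.mem_append_right _ hr), one_pow]

theorem ιz_mem_group {b : GL chevE6.Idx (ZMod 2)} (hb : b ∈ Bz) : ιz b ∈ chevE6.group L :=
  ιz_induction (P := fun g => g ∈ chevE6.group L) (fun r _ => X_mem_group _ r 1) (one_mem _)
    (fun _ _ => mul_mem) (fun _ => inv_mem) hb

theorem stab_PZ_mem {u v : List ℕ} {e : List ℕ × List ℕ × List ℕ} (hu : u ∈ posR.sublists)
    (hv : v ∈ posR.sublists) (he : e ∈ stab) : PZ (u ++ e.1 ++ v) ∈ Bz := by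
  rw [PZ, pat_append, pat_append]
  exact mul_mem (mul_mem (PZ_pos_mem u fun r hr => (List.mem_sublists.1 hu).subset hr) (PZ_stab_mem he))
    (PZ_pos_mem v fun r hr => (List.mem_sublists.1 hv).subset hr)

include p in
theorem eq_one_of_restr {b : GL chevE6.Idx (ZMod 2)} (hb : b ∈ Bz)
    (h : restr (b : Matrix chevE6.Idx chevE6.Idx (ZMod 2)) = 1) : b = 1 := by
  obtain ⟨a, -, u, hu, e, he, v, hv, eq⟩ := p.fixed_centralizer (ιz_mem_group hb)
    (by rw [(commute_tt p hb).eq, mul_inv_cancel_right]) (FF_ιz p hb)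
  set c := b * (PZ (u ++ e.1 ++ v))⁻¹ with hc
  have hca : ιz c = tauOf a := by
    rw [hc, map_mul, map_inv, ιz_PZ, eq, mul_inv_cancel_right]
  have htau : tauOf a = (1 : GL chevE6.Idx L) := by
    rw [← tor_one]
    refine congrArg tor (funext fun r => Units.ext ?_)
    have h0 := congrArg (fun g : GL chevE6.Idx L => g.1 (Sum.inr r) (Sum.inr r)) hca
    simp only [ιz_apply] at h0
    rw [tauOf, tor] at h0
    simp only [Matrix.diagonal_apply_eq, Sum.elim_inr] at h0
    generalize c.1 (Sum.inr r) (Sum.inr r) = q at h0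
    have hq : q = 0 ∨ q = 1 := (by decide : ∀ q : ZMod 2, q = 0 ∨ q = 1) q
    rcases hq with rfl | rfl
    · exact absurd (h0.symm.trans (map_zero _)) (Units.ne_zero _)
    · rw [Units.val_one]; exact h0.symm.trans (map_one _)
  have hb' : b = PZ (u ++ e.1 ++ v) := by
    rw [← mul_inv_eq_one]
    exact ιz_injective (hca.trans (htau.trans (map_one _).symm))
  rw [hb'] at h ⊢
  have he1 := PZ_eq_one hu hv he h
  rw [he1, List.append_nil] at h ⊢
  exact PZ_mul_eq_one hu hv h

theorem hh_mem_group : p.hh ∈ chevE6.group L := by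
  refine mul_mem ?_ ?_
  · refine sl2_induction (P := fun a => φA a ∈ chevE6.group L) (fun u => ?_) (fun u => ?_)
      (fun c d hc hd => by rw [map_mul]; exact mul_mem hc hd) _
    · rw [φA_u]; exact X_mem_group _ _ _
    · rw [φA_v]; exact X_mem_group _ _ _
  · refine sl2_induction (P := fun a => φB a ∈ chevE6.group L) (fun u => ?_) (fun u => ?_)
      (fun c d hc hd => by rw [map_mul]; exact mul_mem hc hd) _
    · rw [φB_u]; exact X_mem_group _ _ _
    · rw [φB_v]; exact X_mem_group _ _ _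

/-- The possible values of a conjugated centralising element. -/
noncomputable def centVal (q : ↥(rootsOfUnity 15 L) × ↥Bz) : GL chevE6.Idx L :=
  tauOf (q.1 : Lˣ) * ιz (q.2 : GL chevE6.Idx (ZMod 2))

theorem mem_range_centVal {g : GL chevE6.Idx L} (hg : g ∈ chevE6.group L) (hc : Commute p.xx g)
    (hF : twF g = g) : p.hh⁻¹ * g * p.hh ∈ Set.range (centVal (L := L)) := by
  obtain ⟨a, ha, u, hu, e, he, v, hv, eq⟩ := p.fixed_centralizer
    (g := p.hh⁻¹ * g * p.hh) (mul_mem (mul_mem (inv_mem (hh_mem_group p)) hg) (hh_mem_group p))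
    (by
      rw [← p.conj_xx]
      calc p.hh⁻¹ * p.xx * p.hh * (p.hh⁻¹ * g * p.hh) * (p.hh⁻¹ * p.xx * p.hh)⁻¹
          = p.hh⁻¹ * (p.xx * g * p.xx⁻¹) * p.hh := by group
        _ = _ := by rw [hc.eq, mul_inv_cancel_right])
    (by
      rw [Param.FF_apply, map_mul, map_mul, map_inv, p.twF_hh, hF]
      group)
  exact ⟨⟨⟨a, ha⟩, ⟨_, stab_PZ_mem hu hv he⟩⟩, by rw [centVal, ιz_PZ]; exact eq.symm⟩

theorem tt_pow_conj (i : ℕ) (r : Root chevE6) (s : L) :
    p.tt ^ i * XL r s * (p.tt ^ i)⁻¹ = XL r ((((p.z ^ ex r) ^ i : Lˣ) : L) * s) := by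
  induction i with
  | zero => simp
  | succ i ih =>
    rw [pow_succ', mul_inv_rev, show p.tt * p.tt ^ i * XL r s * ((p.tt ^ i)⁻¹ * p.tt⁻¹) =
      p.tt * (p.tt ^ i * XL r s * (p.tt ^ i)⁻¹) * p.tt⁻¹ by group, ih, p.tt_conj, ← mul_assoc,
      ← Units.val_mul, ← pow_succ']

theorem five_dvd_of_commute {i : ℕ} (h : Commute (p.tt ^ i) (XL (rt 56) 1)) : 5 ∣ i := by
  have h1 := tt_pow_conj p i (rt 56) 1
  rw [h.eq, mul_inv_cancel_right] at h1
  have h2 := X_injective setupE6.good.good _ h1
  rw [mul_one, ex_56] at h2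
  have h3 : p.z ^ (2 * i) = 1 := by
    rw [pow_mul]
    exact Units.ext (by rw [Units.val_one]; exact h2.symm)
  have := orderOf_dvd_of_pow_eq_one h3
  rw [p.orderOf_z] at this
  omega

theorem dM_pow (n : ℕ) : (p.dM ^ n).1 = !![(p.z : L) ^ n, 0; 0, ((p.z⁻¹ : Lˣ) : L) ^ n] := by
  induction n with
  | zero => simp [Matrix.one_fin_two]
  | succ n ih =>
    rw [pow_succ]
    show (p.dM ^ n).1 * p.dM.1 = _
    rw [ih]
    simp [Param.dM, pow_succ]

theorem xx_pow_five : p.xx ^ 5 = 1 := by
  have hd : p.dM ^ 5 = 1 := by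
    apply Subtype.ext
    rw [dM_pow p 5, ← Units.val_pow_eq_pow_val, ← Units.val_pow_eq_pow_val, inv_pow, p.z_pow_five]
    simp [Matrix.one_fin_two]
  have ht : p.tt ^ 5 = 1 := by
    rw [Param.tt, ← Param.φA_dM, ← Param.φB_frob_dM, (commute_φA_φB _ _).mul_pow, ← map_pow, ← map_pow,
      ← map_pow, hd, map_one, map_one, map_one, one_mul]
  rw [show p.xx = p.hh * p.tt * p.hh⁻¹ by rw [← p.conj_xx]; group, conj_pow, ht, mul_one, mul_inv_cancel]

end Closed

section Finite

variable {K : Type*} [Field K] [Finite K] [CharP K 2] (Φ : FieldTwist setupE6 K)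

/-- The change of field from the field with two elements to `K`. -/
noncomputable def κ : GL chevE6.Idx (ZMod 2) →* GL chevE6.Idx K :=
  Matrix.GeneralLinearGroup.map (ZMod.castHom (dvd_refl 2) K)

theorem κ_mem {b : GL chevE6.Idx (ZMod 2)} (hb : b ∈ Bz) : κ b ∈ Φ.tG := by
  have hle : Bz ≤ Φ.tG.comap (κ (K := K)) := (Subgroup.closure_le _).2 fun x ⟨r, hr, e⟩ => by
    subst e
    have h := six_pairs_ok
    simp only [Bool.and_eq_true, List.all_eq_true, decide_eq_true_eq] at h
    obtain ⟨⟨hlt, horb⟩, -⟩ := h r hr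
    show Matrix.GeneralLinearGroup.map _ _ ∈ Φ.tG
    rw [map_pat]
    have h2 := pat_orbL_mem Φ setupE6_faithful (R := [r]) fun a ha => by
      rw [List.mem_singleton] at ha; subst ha; exact hlt
    rwa [show orbL chevE6 setupE6.cfg [r] = [r] by
      show [r].flatMap cfgE6.orbN = [r]
      rw [List.flatMap_singleton, horb]] at h2
  exact hle hb

/-- The six root elements inside the twisted group. -/
noncomputable def bHom : ↥Bz →* ↥Φ.tG :=
  ((κ (K := K)).comp Bz.subtype).codRestrict Φ.tG fun b => κ_mem Φ b.2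

variable {L : Type*} [Field L] [CharP L 2] (i : K →+* L)

theorem map_κ (b : GL chevE6.Idx (ZMod 2)) : Matrix.GeneralLinearGroup.map i (κ b) = ιz b := by
  refine Units.ext (Matrix.ext fun a c => ?_)
  show i (ZMod.castHom (dvd_refl 2) K (b.1 a c)) = ZMod.castHom (dvd_refl 2) L (b.1 a c)
  exact RingHom.congr_fun (Subsingleton.elim (i.comp (ZMod.castHom (dvd_refl 2) K)) _) _

theorem map_mem_group {g : GL chevE6.Idx K} (hg : g ∈ chevE6.group K) :
    Matrix.GeneralLinearGroup.map i g ∈ chevE6.group L := by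
  rw [group_eq_closure setupE6.good.good] at hg
  induction hg using Subgroup.closure_induction with
  | mem x hx => obtain ⟨r, t, rfl⟩ := hx; rw [X_map]; exact X_mem_group _ _ _
  | one => rw [map_one]; exact one_mem _
  | mul a b _ _ ha hb => rw [map_mul]; exact mul_mem ha hb
  | inv a _ ha => rw [map_inv]; exact inv_mem ha

theorem twF_map (hf : ∀ x, Φ.f x = x ^ 2) {g : GL chevE6.Idx K} (hg : g ∈ Φ.tG) :
    twF (Matrix.GeneralLinearGroup.map i g) = Matrix.GeneralLinearGroup.map i g := by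
  have key : ∀ h ∈ chevE6.group K,
      twF (Matrix.GeneralLinearGroup.map i h) = Matrix.GeneralLinearGroup.map i (Φ.Ψ h) := by
    intro h hh
    rw [group_eq_closure setupE6.good.good] at hh
    induction hh using Subgroup.closure_induction with
    | mem x hx =>
      obtain ⟨r, t, rfl⟩ := hx
      rw [X_map, twF_X, Φ.Ψ_X, X_map, intCast_of_sq (setupE6.valid.ok.root r.2).2.2.2.2.1, one_mul,
        hf, map_pow]
    | one => simp
    | mul a b _ _ ha hb => simp only [map_mul, ha, hb]
    | inv a _ ha => simp only [map_inv, ha]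
  rw [key g (Φ.tG_le_group hg), Φ.mem_fix.1 (Φ.tG_le_fix hg)]

variable (p : Param L)

/-- The centraliser of a preimage of the diagonalisable element has the wanted structure. -/
theorem nonempty_equiv (hf : ∀ x, Φ.f x = x ^ 2) (hK : Nat.card K = 4) (e : twistedE6 K 2 = Φ.tG)
    (x : ↥Φ.tG) (hx : Matrix.GeneralLinearGroup.map i (x : GL chevE6.Idx K) = p.xx) :
    Nonempty (↥(Subgroup.centralizer ({x} : Set ↥Φ.tG)) ≃*
      Multiplicative (ZMod 5) × ↥(alternatingGroup (Fin 8))) := by
  haveI : Fact (Nat.Prime 5) := ⟨by norm_num⟩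
  set ι := Matrix.GeneralLinearGroup.map (n := chevE6.Idx) i with hι
  have hιinj : Function.Injective ι := fun g h e => Units.ext (Matrix.ext fun a b =>
    i.injective (congrArg (fun m : GL chevE6.Idx L => m.1 a b) e))
  have hxx : p.xx = p.hh * p.tt * p.hh⁻¹ := by rw [← p.conj_xx]; group
  have hxb : ∀ b : ↥Bz, Commute x (bHom Φ b) := fun b => by
    refine Subtype.ext (hιinj ?_)
    show ι (x.1 * κ b.1) = ι (κ b.1 * x.1)
    rw [map_mul, map_mul, hx, hι, map_κ, hxx]
    exact (((commute_hh p b.2).mul_left (commute_tt p b.2)).mul_left (commute_hh p b.2).inv_left).eq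
  have hx5 : x ^ 5 = 1 := by
    refine Subtype.ext (hιinj ?_)
    rw [SubmonoidClass.coe_pow, map_pow, hx, xx_pow_five, OneMemClass.coe_one, map_one]
  let C := Subgroup.centralizer ({x} : Set ↥Φ.tG)
  let ψ : Multiplicative (ZMod 5) × ↥Bz →* ↥C :=
    (MonoidHom.noncommCoprod (zpowHom x hx5) (bHom Φ) fun k b => (hxb b).pow_left _).codRestrict C
      fun q => Subgroup.mem_centralizer_singleton_iff.2
        ((((Commute.refl x).pow_right _).mul_right (hxb q.2)).eq).symm
  have hψ : Function.Injective ψ := by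
    refine (injective_iff_map_eq_one _).2 fun q hq => ?_
    obtain ⟨k, b⟩ := q
    have h1 : ι (x.1 ^ (Multiplicative.toAdd k).val * κ b.1) = 1 := by
      have h := congrArg (fun c : ↥C => ι ((c : ↥Φ.tG) : GL chevE6.Idx K)) hq
      simp only [OneMemClass.coe_one, map_one] at h
      exact h
    rw [map_mul, map_pow, hx, hι, map_κ, hxx, conj_pow] at h1
    set n := (Multiplicative.toAdd k).val with hn
    have h2 : p.tt ^ n = ιz (b.1⁻¹) := by
      have hc := (commute_hh p (inv_mem b.2)).eq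
      rw [map_inv] at hc ⊢
      rw [← eq_inv_iff_mul_eq_one] at h1
      calc p.tt ^ n = p.hh⁻¹ * (p.hh * p.tt ^ n * p.hh⁻¹) * p.hh := by group
        _ = p.hh⁻¹ * ((ιz b.1)⁻¹ * p.hh) := by rw [h1, mul_assoc]
        _ = _ := by rw [← hc, inv_mul_cancel_left]
    have h5 : 5 ∣ n := five_dvd_of_commute p (by
      rw [h2, ← φA_u, ← mul_one (φA _), ← map_one (φB (L := L))]
      exact (commute_φ_ιz _ _ (inv_mem b.2)).symm)
    have hk : k = 1 := by
      have := ZMod.val_lt (Multiplicative.toAdd k)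
      have h0 : n = 0 := by omega
      rwa [hn, ZMod.val_eq_zero] at h0
    refine Prod.ext hk ?_
    have hn0 : n = 0 := by rw [hn, hk]; simp
    rw [hn0, pow_zero, eq_comm, ← map_one (ιz (L := L))] at h2
    exact Subtype.ext (inv_eq_one.1 (ιz_injective h2))
  have hS : Function.Bijective toSL :=
    ⟨(injective_iff_map_eq_one _).2 fun b hb => Subtype.ext
      (eq_one_of_restr p b.2 (congrArg Subtype.val hb)), toSL_surjective⟩
  let eB := (MulEquiv.ofBijective toSL hS).trans CfsgLib.GLFourTwo.equivAlt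
  have hBz : Nat.card ↥Bz = 20160 :=
    (Nat.card_congr eB.toEquiv).trans CfsgLib.GLFourTwo.card_alternating_eight
  have hdom : Nat.card (Multiplicative (ZMod 5) × ↥Bz) = 100800 := by
    rw [Nat.card_prod, hBz, Nat.card_eq_fintype_card]; rfl
  haveI : Finite ↥Bz := Nat.finite_of_card_ne_zero (by rw [hBz]; norm_num)
  have hup : Nat.card ↥C ≤ 302400 := by
    let f : ↥C → Set.range (centVal (L := L)) := fun g =>
      ⟨p.hh⁻¹ * ι (g : ↥Φ.tG).1 * p.hh, mem_range_centVal p (map_mem_group i (Φ.tG_le_group g.1.2))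
        (by
          have := congrArg (fun y : ↥Φ.tG => ι y.1) (Subgroup.mem_centralizer_singleton_iff.1 g.2)
          simp only [Subgroup.coe_mul, map_mul, hx] at this
          exact this.symm)
        (twF_map Φ i hf g.1.2)⟩
    have hinj : Function.Injective f := fun g h e => Subtype.ext (Subtype.ext (hιinj
      (mul_left_cancel (mul_right_cancel (congrArg Subtype.val e)))))
    haveI : Finite (Set.range (centVal (L := L))) := Set.finite_range _
    calc Nat.card ↥C ≤ Nat.card (Set.range (centVal (L := L))) := Nat.card_le_card_of_injective f hinj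
      _ ≤ Nat.card (↥(rootsOfUnity 15 L) × ↥Bz) := Finite.card_range_le _
      _ ≤ 15 * 20160 := by
        rw [Nat.card_prod, hBz]
        exact Nat.mul_le_mul_right _ (card_rootsOfUnity L 15)
  obtain ⟨k, hk⟩ : 100800 ∣ Nat.card ↥C := hdom ▸ Subgroup.card_dvd_of_injective ψ hψ
  have hord : orderOf x = 5 := orderOf_eq_prime hx5 fun h1 => by
    have h2 : ψ (Multiplicative.ofAdd 1, 1) = 1 := by
      refine Subtype.ext ?_
      show x ^ (1 : ZMod 5).val * bHom Φ 1 = 1
      rw [h1, one_pow, map_one, one_mul]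
    exact one_ne_zero (α := ZMod 5) (congrArg Multiplicative.toAdd (congrArg Prod.fst (hψ (h2.trans (map_one ψ).symm))))
  obtain ⟨g, hg⟩ := isConj_iff.1 (isConj_ea Φ hK e hord)
  have hcc : Nat.card ↥(Subgroup.centralizer ({ea Φ} : Set ↥Φ.tG)) = Nat.card ↥C := by
    rw [show C = Subgroup.centralizer ({g * ea Φ * g⁻¹} : Set ↥Φ.tG) by rw [hg]]
    exact Nat.card_congr (centralizerConj g (ea Φ)).toEquiv
  have hcard : Nat.card ↥C = 100800 := by
    have hi := index_mod_five Φ hK e
    have hm := (Subgroup.centralizer ({ea Φ} : Set ↥Φ.tG)).card_mul_index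
    have hG := natCard_tG_two Φ hK e
    rw [hcc, hk] at hm
    rw [← hm] at hG
    have hk0 : k ≠ 0 := fun h0 => by
      have := Nat.card_pos (α := ↥C)
      rw [hk, h0, mul_zero] at this
      omega
    have hk3 : k ≤ 3 := by rw [hk] at hup; omega
    norm_num at hG
    rcases (show k = 1 ∨ k = 2 ∨ k = 3 by omega) with rfl | rfl | rfl
    · exact hk
    · omega
    · omega
  have hbij : Function.Bijective ψ := by
    haveI : Finite ↥C := Nat.finite_of_card_ne_zero (by rw [hcard]; norm_num)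
    exact (Nat.bijective_iff_injective_and_card ψ).2 ⟨hψ, by rw [hdom, hcard]⟩
  exact ⟨(MulEquiv.ofBijective ψ hbij).symm.trans ((MulEquiv.refl _).prodCongr eB)⟩

end Finite

open scoped Polynomial in
/-- The two clauses. -/
theorem main {K : Type*} [Field K] [Fintype K] (hK : Fintype.card K = 4) :
    (∀ x y : ↥(twistedE6 K 2), orderOf x = 5 → orderOf y = 5 → IsConj x y) ∧
      ∀ x : ↥(twistedE6 K 2), orderOf x = 5 →
        Nonempty (↥(Subgroup.centralizer ({x} : Set ↥(twistedE6 K 2))) ≃*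
          (Multiplicative (ZMod 5) × ↥(alternatingGroup (Fin 8)))) := by
  haveI : CharP K 2 := by
    haveI : CharP K (ringChar K) := ringChar.charP K
    obtain ⟨n, hp, hn⟩ := FiniteField.card K (ringChar K)
    have : ringChar K = 2 := by
      have h := hp.two_le
      have : ringChar K ∣ 2 ^ 2 := by
        rw [show 2 ^ 2 = Fintype.card K by rw [hK]; norm_num, hn]; exact dvd_pow_self _ n.pos.ne'
      exact (Nat.prime_dvd_prime_iff_eq hp Nat.prime_two).1 (hp.dvd_of_dvd_pow this)
    exact this ▸ ringChar.charP K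
  obtain ⟨Φ, e, hf, -, -, -⟩ := twistedE6_eq_tG (K := K) (q := 2) Nat.prime_two.isPrimePow
    (by rw [hK]; norm_num)
  have hK' : Nat.card K = 4 := by rw [Nat.card_eq_fintype_card, hK]
  obtain ⟨om, hom0, hom1⟩ : ∃ om : K, om ≠ 0 ∧ om ≠ 1 := by
    classical
    obtain ⟨x, hx⟩ : ∃ x, x ∉ ({0, 1} : Finset K) := by
      by_contra h
      push Not at h
      have h1 := Finset.card_le_card (show (Finset.univ : Finset K) ⊆ {0, 1} from fun x _ => h x)
      have h2 : ({0, 1} : Finset K).card ≤ 2 := Finset.card_le_two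
      rw [Finset.card_univ, hK] at h1
      omega
    exact ⟨x, fun h => hx (by simp [h]), fun h => hx (by simp [h])⟩
  have hom : om ^ 2 = om + 1 := by
    have h3 : om ^ 3 = 1 := by
      have := FiniteField.pow_card_sub_one_eq_one om hom0
      rwa [hK] at this
    have h2 : (2 : K) = 0 := CharTwo.two_eq_zero
    refine mul_left_cancel₀ (sub_ne_zero.2 hom1) ?_
    linear_combination h3 - (om ^ 2 - 1) * h2
  let L := AlgebraicClosure K
  let i : K →+* L := algebraMap K L
  haveI : CharP L 2 := charP_of_injective_ringHom i.injective 2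
  obtain ⟨ζ, hζ⟩ := IsAlgClosed.exists_root (Polynomial.C (1 : L) * Polynomial.X ^ 2 +
      Polynomial.C (i om) * Polynomial.X + Polynomial.C (1 : L))
    (by rw [Polynomial.degree_quadratic one_ne_zero]; decide)
  simp only [Polynomial.IsRoot.def, Polynomial.eval_add, Polynomial.eval_mul, Polynomial.eval_C,
    Polynomial.eval_pow, Polynomial.eval_X, one_mul] at hζ
  have hζ0 : ζ ≠ 0 := by rintro rfl; simp at hζ
  let p : Param L := ⟨i om, Units.mk0 ζ hζ0, by rw [← map_pow, hom, map_add, map_one], by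
    have h2 : (2 : L) = 0 := CharTwo.two_eq_zero
    rw [Units.val_mk0]
    linear_combination hζ - (i om * ζ + 1) * h2⟩
  have hgen : ∀ w ∈ e6Words K 2, ∀ g : GL chevE6.Idx K,
      (g : Matrix chevE6.Idx chevE6.Idx K) = chevE6.wordMat K w → g ∈ twistedE6 K 2 :=
    fun w hw g hg => Subgroup.subset_closure ⟨w, hw, hg⟩
  let x0 : GL chevE6.Idx K := (XL (rt 56) 1 * XL (rt 36) 1) * (XL (rt 15) om * XL (rt 35) (om ^ 2))
  have hx0 : x0 ∈ twistedE6 K 2 := by
    refine mul_mem (hgen [(56, 1), (36, 1 ^ 2)] (Or.inr ⟨1, (e6p1, e6p6), by simp, rfl⟩) _ ?_)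
      (hgen [(15, om), (35, om ^ 2)] (Or.inr ⟨om, (e6m1, e6m6), by simp, rfl⟩) _ ?_)
    all_goals
      simp only [ChevalleyDatum.wordMat, List.map_cons, List.map_nil, List.prod_cons, List.prod_nil,
        mul_one, one_pow, Units.val_mul, coe_X]
      rw [← x_eq_xR setupE6.good.good, ← x_eq_xR setupE6.good.good]
  let x1 : ↥Φ.tG := ⟨x0, e ▸ hx0⟩
  have hxx : Matrix.GeneralLinearGroup.map i x0 = p.xx := by
    rw [map_mul, map_mul, map_mul, X_map, X_map, X_map, X_map, map_one, map_pow, Param.xx,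
      map_mul, map_mul, φA_u, φA_v, φB_u, φB_v]
    exact (commute_gen (by simp) (by simp) _ _).symm.mul_mul_mul_comm _ _
  obtain ⟨eqv⟩ := nonempty_equiv Φ i p hf hK' e x1 hxx
  have hx1 : orderOf x1 = 5 := by
    have h1 : x1 ≠ 1 := fun h => by
      have h2 := congrArg (fun y : ↥Φ.tG => Matrix.GeneralLinearGroup.map i y.1) h
      simp only [OneMemClass.coe_one, map_one] at h2
      rw [hxx] at h2
      have h3 := p.conj_xx
      rw [h2, mul_one, inv_mul_cancel] at h3
      have h4 : (5 : ℕ) ∣ 1 := five_dvd_of_commute p (by rw [pow_one, ← h3]; exact Commute.one_left _)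
      norm_num at h4
    haveI : Fact (Nat.Prime 5) := ⟨by norm_num⟩
    refine orderOf_eq_prime (Subtype.ext ?_) h1
    have hinj : Function.Injective (Matrix.GeneralLinearGroup.map (n := chevE6.Idx) i) := fun g h e' =>
      Units.ext (Matrix.ext fun a b => i.injective (congrArg (fun m : GL chevE6.Idx L => m.1 a b) e'))
    refine hinj ?_
    show Matrix.GeneralLinearGroup.map i (x0 ^ 5) = Matrix.GeneralLinearGroup.map i 1
    rw [map_pow, map_one, hxx, xx_pow_five]
  refine e ▸ ⟨fun x y hx hy => (isConj_ea Φ hK' e hx).symm.trans (isConj_ea Φ hK' e hy), fun x hx => ?_⟩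
  obtain ⟨g, hg⟩ := isConj_iff.1 ((isConj_ea Φ hK' e hx1).symm.trans (isConj_ea Φ hK' e hx))
  subst hg
  exact ⟨(centralizerConj g x1).symm.trans eqv⟩

end CfsgLib.ESixFive
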