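import Cfsg.Agent.ESixFive.Data
import Cfsg.Agent.GraphTwist.DataE6
import Cfsg.Agent.ESixFive.Ops
import Cfsg.Agent.TwistInvol.Words
import Cfsg.Agent.GLFourTwo.Iso

/-!
# The subgroup of six root elements and its natural module

Six root elements with parameter one generate a group over the field with two elements that acts
on four root vectors as `SL₄(2)`; on products `u n v` in Bruhat form the action is faithful.
-/

set_option autoImplicit false
set_option maxRecDepth 20000

namespace CfsgLib.ESixFive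

open Cfsg.Lie CfsgLib.Chevalley CfsgLib.GraphTwist CfsgLib.UniInvol CfsgLib.TwistInvol
open scoped MatrixGroups

/-- The positive roots orthogonal to `p₁` and `p₆`. -/
def posR : List ℕ := [39, 46, 47, 69, 70, 71]

/-- The generating roots. -/
def sixR : List ℕ := [69, 39, 46, 2, 32, 25]

/-- A positive root element as a product of generators. -/
def expand (r : ℕ) : List ℕ :=
  if r = 47 then [39, 46, 39, 46]
  else if r = 70 then [69, 39, 69, 39]
  else if r = 71 then [69, 39, 69, 39, 46, 69, 39, 69, 39, 46]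
  else [r]

/-- The coordinate of a natural basis vector. -/
def natIdx (i : ℕ) : ℕ := 6 + natRoots.getD i 0

/-- The row operations on the natural module. -/
def natTbl : List (List (ℕ × ℕ)) :=
  (List.range 72).map fun r => (natOps.lookup r).getD []

/-- The natural matrix of a word, as bits. -/
def natY (L : List ℕ) : ℕ := bY 4 natTbl L

/-- The bits of a packed matrix below the diagonal vanish. -/
def upper (Y : ℕ) : Bool :=
  (List.range 4).all fun i => (List.range 4).all fun j => decide (i ≤ j) || !Y.testBit (i * 4 + j)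

theorem word_ok : (stab.all fun e => e.1.all (fun r => decide (r ∈ sixR))) &&
    (posR.all fun r => (expand r).all (fun a => decide (a ∈ sixR)) &&
      chkSame chevE6 TwistInvol.E6.ops [r] (expand r)) &&
    (natTrans.all fun e => e.2.2.all (fun r => decide (r ∈ sixR))) = true := by
  decide +kernel

theorem gen_ok : ((sixR ++ posR).all fun r => decide (r < 72) &&
    ((List.range 4).all fun j => (List.range 78).all fun i =>
      (List.range 4).any (fun k => decide (natIdx k = i)) ||
        !(bY 78 TwistInvol.E6.ops [r]).testBit (i * 78 + natIdx j)) &&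
    ((List.range 4).all fun i => (List.range 4).all fun j =>
      (bY 78 TwistInvol.E6.ops [r]).testBit (natIdx i * 78 + natIdx j) ==
        ((Nat.xor (opsMask i (natTbl.getD r [])) (2 ^ i)).testBit j)) &&
    ((natTbl.getD r []).all fun p => decide (p.2 < 4)) &&
    chkSame chevE6 TwistInvol.E6.ops [r, r] []) = true := by
  decide +kernel

theorem upper_ok : (posR.sublists.all fun u => upper (natY u.reverse)) = true := by
  decide +kernel

theorem match_ok : (posR.sublists.all fun u => posR.sublists.all fun v =>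
    ((List.range 4).any fun i => (List.range 4).any fun j =>
      (natY u).testBit (i * 4 + j) != (natY v.reverse).testBit (i * 4 + j)) ||
      chkSame chevE6 TwistInvol.E6.ops u v.reverse) = true := by
  decide +kernel

theorem cell_ok : (stab.all fun e => posR.sublists.all fun u =>
    decide (e.1 = []) || !upper (natY (u ++ e.1))) = true := by
  decide +kernel

theorem trans_ok : (natTrans.all fun e => (List.range 4).all fun i => (List.range 4).all fun j =>
    (natY e.2.2).testBit (i * 4 + j) == decide (i = j ∨ (i = e.1 ∧ j = e.2.1))) &&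
    ((List.range 4).all fun i => (List.range 4).all fun j => decide (i = j) ||
      natTrans.any fun e => decide (e.1 = i ∧ e.2.1 = j)) = true := by
  decide +kernel

/-- The field with two elements. -/
local notation "F₂" => ZMod 2

local instance : Fact (Nat.Prime 2) := ⟨Nat.prime_two⟩

/-- The product of a word of root elements over the field with two elements. -/
abbrev PZ (L : List ℕ) : GL chevE6.Idx F₂ := pat F₂ setupE6.good L

/-- The subgroup generated by the six root elements. -/
def Bz : Subgroup (GL chevE6.Idx F₂) := Subgroup.closure {g | ∃ r ∈ sixR, PZ [r] = g}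

theorem PZ_mem : ∀ L : List ℕ, (∀ r ∈ L, r ∈ sixR) → PZ L ∈ Bz
  | [], _ => by rw [PZ, pat_nil]; exact one_mem _
  | r :: L, h => by
    rw [show r :: L = [r] ++ L from rfl, PZ, pat_append]
    exact mul_mem (Subgroup.subset_closure ⟨r, h r List.mem_cons_self, rfl⟩)
      (PZ_mem L fun a ha => h a (List.mem_cons_of_mem _ ha))

theorem PZ_stab_mem {e : List ℕ × List ℕ × List ℕ} (he : e ∈ stab) : PZ e.1 ∈ Bz := by
  have h := word_ok
  simp only [Bool.and_eq_true, List.all_eq_true, decide_eq_true_eq] at h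
  exact PZ_mem _ (h.1.1 e he)

theorem PZ_pos_mem : ∀ L : List ℕ, (∀ r ∈ L, r ∈ posR) → PZ L ∈ Bz
  | [], _ => by rw [PZ, pat_nil]; exact one_mem _
  | r :: L, hL => by
    have h := word_ok
    simp only [Bool.and_eq_true, List.all_eq_true, decide_eq_true_eq] at h
    rw [show r :: L = [r] ++ L from rfl, PZ, pat_append]
    refine mul_mem ?_ (PZ_pos_mem L fun a ha => hL a (List.mem_cons_of_mem _ ha))
    rw [pat_eq_of_chkSame ops_ok (h.1.2 r (hL r List.mem_cons_self)).2]
    exact PZ_mem _ (h.1.2 r (hL r List.mem_cons_self)).1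

theorem PZ_single_inv {r : ℕ} (hr : r ∈ sixR ++ posR) : (PZ [r])⁻¹ = PZ [r] := by
  have h := gen_ok
  simp only [Bool.and_eq_true, List.all_eq_true] at h
  refine inv_eq_of_mul_eq_one_right ?_
  rw [PZ, ← pat_append, List.singleton_append, pat_eq_of_chkSame ops_ok (h r hr).2, pat_nil]

theorem PZ_reverse : ∀ L : List ℕ, (∀ r ∈ L, r ∈ posR) → PZ L.reverse = (PZ L)⁻¹
  | [], _ => by simp [PZ]
  | r :: L, hL => by
    have ih := PZ_reverse L fun a ha => hL a (List.mem_cons_of_mem _ ha)
    have e := PZ_single_inv (List.mem_append_right sixR (hL r List.mem_cons_self))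
    unfold PZ at ih e ⊢
    rw [List.reverse_cons, pat_append, ih, show r :: L = [r] ++ L from rfl, pat_append, mul_inv_rev, e]

/-- The basis vector of the natural module. -/
def nat4 (i : Fin 4) : chevE6.Idx := Sum.inr ⟨natRoots.getD i 0, by revert i; decide⟩

theorem nat4_val (i : Fin 4) : (finSumFinEquiv (nat4 i) : ℕ) = natIdx i := by
  revert i; decide

/-- A matrix preserving the span of the four vectors. -/
def Keeps (M : Matrix chevE6.Idx chevE6.Idx F₂) : Prop :=
  ∀ a, (∀ k, nat4 k ≠ a) → ∀ j, M a (nat4 j) = 0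

/-- The restriction to the four vectors. -/
def restr (M : Matrix chevE6.Idx chevE6.Idx F₂) : Matrix (Fin 4) (Fin 4) F₂ := M.submatrix nat4 nat4

theorem nat4_injective : Function.Injective nat4 := by decide

theorem restr_mul {M N : Matrix chevE6.Idx chevE6.Idx F₂} (hN : Keeps N) :
    restr (M * N) = restr M * restr N := by
  ext i j
  simp only [restr, Matrix.submatrix_apply, Matrix.mul_apply]
  symm
  refine Finset.sum_bij_ne_zero (fun k _ _ => nat4 k) (fun k _ _ => Finset.mem_univ _)
    (fun a _ _ b _ _ e => nat4_injective e) (fun a _ ha => ?_) (fun k _ _ => rfl)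
  by_cases h : ∃ k, nat4 k = a
  · obtain ⟨k, rfl⟩ := h; exact ⟨k, Finset.mem_univ _, ha, rfl⟩
  · push Not at h
    exact absurd (by rw [hN a h j, mul_zero]) ha

theorem Keeps.mul {M N : Matrix chevE6.Idx chevE6.Idx F₂} (hM : Keeps M) (hN : Keeps N) :
    Keeps (M * N) := by
  intro a ha j
  rw [Matrix.mul_apply]
  refine Finset.sum_eq_zero fun b _ => ?_
  by_cases h : ∃ k, nat4 k = b
  · obtain ⟨k, rfl⟩ := h; rw [hM a ha k, zero_mul]
  · push Not at h
    rw [hN b h j, mul_zero]

theorem restr_one : restr (1 : Matrix chevE6.Idx chevE6.Idx F₂) = 1 :=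
  Matrix.submatrix_one nat4 nat4_injective

theorem coe_PZ_single {r : ℕ} (hr : r ∈ sixR ++ posR) :
    (PZ [r] : Matrix chevE6.Idx chevE6.Idx F₂) = bMat F₂ chevE6.rank chevE6.nroots (bY 78 TwistInvol.E6.ops [r]) := by
  refine coe_pat_eq_bMat ops_ok [r] fun a ha => ?_
  rw [List.mem_singleton] at ha
  subst ha
  have h := gen_ok
  simp only [Bool.and_eq_true, List.all_eq_true, decide_eq_true_eq] at h
  exact (h a hr).1.1.1.1

theorem keeps_single {r : ℕ} (hr : r ∈ sixR ++ posR) : Keeps (PZ [r] : Matrix chevE6.Idx chevE6.Idx F₂) := by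
  intro a ha j
  have h := gen_ok
  simp only [Bool.and_eq_true, List.all_eq_true, List.any_eq_true, List.mem_range, Bool.or_eq_true,
    decide_eq_true_eq, Bool.not_eq_true'] at h
  rw [coe_PZ_single hr]
  show bitF F₂ _ ((finSumFinEquiv a : ℕ) * 78 + (finSumFinEquiv (nat4 j) : ℕ)) = 0
  rw [nat4_val]
  rcases (h r hr).1.1.1.2 j j.2 (finSumFinEquiv a : ℕ) (Fin.is_lt _) with ⟨k, hk, e⟩ | e
  · refine absurd (finSumFinEquiv.injective (Fin.ext ?_)) (ha ⟨k, hk⟩)
    rw [nat4_val]; exact e
  · simp [bitF, e]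

/-- Packed bits as a natural matrix. -/
def natM (Y : ℕ) : Matrix (Fin 4) (Fin 4) F₂ := fun i j => bitF F₂ Y ((i : ℕ) * 4 + j)

theorem natY_spec : ∀ L : List ℕ, (∀ r ∈ L, r ∈ sixR ++ posR) →
    Keeps (PZ L : Matrix chevE6.Idx chevE6.Idx F₂) ∧ restr (PZ L : Matrix chevE6.Idx chevE6.Idx F₂) = natM (natY L)
  | [], _ => by
    rw [PZ, pat_nil, Units.val_one]
    refine ⟨fun a ha j => Matrix.one_apply_ne fun e => ha j e.symm, ?_⟩
    rw [restr_one]
    ext i j
    rw [natM, natY, bY, bitF_bOne _ _ j.2 _ le_rfl, Matrix.one_apply]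
    simp [Fin.ext_iff]
  | r :: L, hL => by
    have hr := hL r List.mem_cons_self
    obtain ⟨hk, e⟩ := natY_spec L fun a ha => hL a (List.mem_cons_of_mem _ ha)
    have h := gen_ok
    simp only [Bool.and_eq_true, List.all_eq_true, List.mem_range, beq_iff_eq, decide_eq_true_eq] at h
    obtain ⟨⟨⟨-, hm⟩, hp⟩, -⟩ := h r hr
    rw [show r :: L = [r] ++ L from rfl, PZ, pat_append, Units.val_mul]
    refine ⟨(keeps_single hr).mul hk, ?_⟩
    rw [restr_mul hk, e]
    ext i j
    rw [Matrix.mul_apply]
    show _ = bitF F₂ (bOps 4 (bY 4 natTbl L) (natTbl.getD r [])) ((i : ℕ) * 4 + j)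
    rw [
      bitF_bOps _ _ _ j.2 _ hp, ← Fin.sum_univ_eq_sum_range (fun k => bitF F₂ (opsMask i (natTbl.getD r [])) k *
        bitF F₂ (bY 4 natTbl L) (k * 4 + j)) 4]
    have hX : ∀ k : Fin 4, restr (PZ [r] : Matrix chevE6.Idx chevE6.Idx F₂) i k =
        bitF F₂ (opsMask i (natTbl.getD r [])) k + if k = i then 1 else 0 := by
      intro k
      rw [restr, Matrix.submatrix_apply, coe_PZ_single hr]
      show bitF F₂ _ ((finSumFinEquiv (nat4 i) : ℕ) * 78 + (finSumFinEquiv (nat4 k) : ℕ)) = _
      rw [nat4_val, nat4_val, show (if k = i then (1 : F₂) else 0) = bitF F₂ (2 ^ (i : ℕ)) k by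
        rw [bitF_two_pow]; simp [Fin.ext_iff, eq_comm], ← bitF_xor, bitF, bitF,
        hm i i.2 k k.2]
    simp only [hX, add_mul, Finset.sum_add_distrib, ite_mul, one_mul, zero_mul, Finset.sum_ite_eq',
      Finset.mem_univ, if_true]
    rw [add_comm]
    rfl

theorem natM_eq_iff {Y Z : ℕ} : natM Y = natM Z ↔ ∀ i < 4, ∀ j < 4, Y.testBit (i * 4 + j) = Z.testBit (i * 4 + j) := by
  constructor
  · intro h i hi j hj
    have := congrFun (congrFun h ⟨i, hi⟩) ⟨j, hj⟩
    simp only [natM, bitF] at this
    revert this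
    cases Y.testBit (i * 4 + j) <;> cases Z.testBit (i * 4 + j) <;> simp
  · intro h
    ext i j
    simp only [natM, bitF, h i i.2 j j.2]

theorem keeps_of_mem {g : GL chevE6.Idx F₂} (hg : g ∈ Bz) :
    Keeps (g : Matrix chevE6.Idx chevE6.Idx F₂) ∧ Keeps ((g⁻¹ : GL chevE6.Idx F₂) : Matrix chevE6.Idx chevE6.Idx F₂) := by
  induction hg using Subgroup.closure_induction with
  | mem x hx =>
    obtain ⟨r, hr, rfl⟩ := hx
    rw [PZ_single_inv (List.mem_append_left _ hr)]
    exact ⟨keeps_single (List.mem_append_left _ hr), keeps_single (List.mem_append_left _ hr)⟩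
  | one =>
    rw [inv_one, Units.val_one]
    have h1 : Keeps (1 : Matrix chevE6.Idx chevE6.Idx F₂) := fun a ha j =>
      Matrix.one_apply_ne fun e => ha j e.symm
    exact ⟨h1, h1⟩
  | mul a b _ _ iha ihb =>
    rw [mul_inv_rev, Units.val_mul, Units.val_mul]
    exact ⟨iha.1.mul ihb.1, ihb.2.mul iha.2⟩
  | inv a _ ih => rw [inv_inv]; exact ⟨ih.2, ih.1⟩

theorem det_restr {g : GL chevE6.Idx F₂} (hg : g ∈ Bz) :
    (restr (g : Matrix chevE6.Idx chevE6.Idx F₂)).det = 1 := by
  have e := restr_mul (M := (g : Matrix chevE6.Idx chevE6.Idx F₂)) (keeps_of_mem hg).2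
  rw [← Units.val_mul, mul_inv_cancel, Units.val_one, restr_one] at e
  have h1 := congrArg Matrix.det e
  rw [Matrix.det_one, Matrix.det_mul] at h1
  revert h1
  generalize (restr (g : Matrix chevE6.Idx chevE6.Idx F₂)).det = a
  generalize (restr ((g⁻¹ : GL chevE6.Idx F₂) : Matrix chevE6.Idx chevE6.Idx F₂)).det = b
  revert a b; decide

/-- The action on the natural module. -/
def toSL : ↥Bz →* Matrix.SpecialLinearGroup (Fin 4) F₂ where
  toFun g := ⟨restr (g.1 : Matrix chevE6.Idx chevE6.Idx F₂), det_restr g.2⟩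
  map_one' := Subtype.ext restr_one
  map_mul' a b := Subtype.ext (restr_mul (keeps_of_mem b.2).1)

theorem toSL_surjective : Function.Surjective toSL := by
  rw [← MonoidHom.range_eq_top]
  refine CfsgLib.Linear.sl_eq_top_of_transvections fun i j hij c => ?_
  have hc : c = 0 ∨ c = 1 := by revert c; decide
  rcases hc with rfl | rfl
  · rw [show Matrix.SpecialLinearGroup.transvection hij (0 : F₂) = 1 from
      Subtype.ext (Matrix.transvection_zero i j)]
    exact one_mem _
  have h := trans_ok
  simp only [Bool.and_eq_true, List.all_eq_true, List.any_eq_true, List.mem_range, Bool.or_eq_true,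
    decide_eq_true_eq, beq_iff_eq] at h
  rcases h.2 i i.2 j j.2 with e | ⟨w, hw, e1, e2⟩
  · exact absurd (Fin.ext e) hij
  have hwd := word_ok
  simp only [Bool.and_eq_true, List.all_eq_true, decide_eq_true_eq] at hwd
  refine ⟨⟨PZ w.2.2, PZ_mem _ (hwd.2 w hw)⟩, Subtype.ext ?_⟩
  show restr _ = _
  rw [(natY_spec w.2.2 fun r hr => List.mem_append_left _ (hwd.2 w hw r hr)).2]
  ext a b
  rw [natM, bitF, h.1 w hw a a.2 b b.2, e1, e2]
  show _ = Matrix.transvection i j (1 : F₂) a b
  rw [Matrix.transvection, Matrix.add_apply, Matrix.one_apply, Matrix.single_apply]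
  by_cases h1 : a = b
  · subst h1
    have : ¬ (i = a ∧ j = a) := fun h => hij (h.1.trans h.2.symm)
    simp [this]
  · by_cases h2 : i = a ∧ j = b
    · obtain ⟨rfl, rfl⟩ := h2; simp [h1]
    · rw [if_neg h1, if_neg h2, add_zero, if_neg]
      simp only [decide_eq_true_eq, not_or, not_and]
      exact ⟨fun e => h1 (Fin.ext e), fun ea eb => h2 ⟨(Fin.ext ea).symm, (Fin.ext eb).symm⟩⟩

/-- A product in Bruhat form acting trivially is trivial. -/
theorem PZ_eq_one {u v : List ℕ} {e : List ℕ × List ℕ × List ℕ} (hu : u ∈ posR.sublists)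
    (hv : v ∈ posR.sublists) (he : e ∈ stab)
    (h : restr (PZ (u ++ e.1 ++ v) : Matrix chevE6.Idx chevE6.Idx F₂) = 1) : e.1 = [] := by
  have hwd := word_ok
  simp only [Bool.and_eq_true, List.all_eq_true, decide_eq_true_eq] at hwd
  have hu' : ∀ r ∈ u, r ∈ posR := fun r hr => (List.mem_sublists.1 hu).subset hr
  have hv' : ∀ r ∈ v, r ∈ posR := fun r hr => (List.mem_sublists.1 hv).subset hr
  have huw : ∀ r ∈ u ++ e.1, r ∈ sixR ++ posR := fun r hr => by
    rcases List.mem_append.1 hr with hr | hr
    · exact List.mem_append_right _ (hu' r hr)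
    · exact List.mem_append_left _ (hwd.1.1 e he r hr)
  have hvr : ∀ r ∈ v.reverse, r ∈ sixR ++ posR := fun r hr =>
    List.mem_append_right _ (hv' r (List.mem_reverse.1 hr))
  have e1 : restr (PZ (u ++ e.1) : Matrix chevE6.Idx chevE6.Idx F₂) = natM (natY v.reverse) := by
    rw [← (natY_spec _ hvr).2]
    have : PZ (u ++ e.1) = PZ (u ++ e.1 ++ v) * PZ v.reverse := by
      rw [PZ_reverse v hv', PZ, PZ, pat_append (u ++ e.1) v, mul_inv_cancel_right]
    rw [this, Units.val_mul, restr_mul (natY_spec _ hvr).1, h, one_mul]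
  rw [(natY_spec _ huw).2, natM_eq_iff] at e1
  have hc := cell_ok
  simp only [List.all_eq_true, Bool.or_eq_true, decide_eq_true_eq, Bool.not_eq_true'] at hc
  rcases hc e he u hu with e2 | e2
  · exact e2
  exfalso
  have hup := upper_ok
  simp only [List.all_eq_true] at hup
  have hv2 := hup v hv
  simp only [upper, List.all_eq_true, List.mem_range, Bool.or_eq_true, decide_eq_true_eq,
    Bool.not_eq_true'] at hv2
  rw [← Bool.not_eq_true] at e2
  refine e2 ?_
  simp only [upper, List.all_eq_true, List.mem_range, Bool.or_eq_true, decide_eq_true_eq,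
    Bool.not_eq_true']
  intro i hi j hj
  rw [e1 i hi j hj]
  exact hv2 i hi j hj

/-- A product of two unipotent words acting trivially is trivial. -/
theorem PZ_mul_eq_one {u v : List ℕ} (hu : u ∈ posR.sublists) (hv : v ∈ posR.sublists)
    (h : restr (PZ (u ++ v) : Matrix chevE6.Idx chevE6.Idx F₂) = 1) : PZ (u ++ v) = 1 := by
  have hu' : ∀ r ∈ u, r ∈ sixR ++ posR := fun r hr =>
    List.mem_append_right _ ((List.mem_sublists.1 hu).subset hr)
  have hv' : ∀ r ∈ v, r ∈ posR := fun r hr => (List.mem_sublists.1 hv).subset hr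
  have hvr : ∀ r ∈ v.reverse, r ∈ sixR ++ posR := fun r hr =>
    List.mem_append_right _ (hv' r (List.mem_reverse.1 hr))
  have e0 : PZ u = PZ (u ++ v) * PZ v.reverse := by
    rw [PZ_reverse v hv', PZ, PZ, pat_append, mul_inv_cancel_right]
  have e1 : natM (natY u) = natM (natY v.reverse) := by
    rw [← (natY_spec _ hvr).2, ← (natY_spec _ hu').2, e0, Units.val_mul,
      restr_mul (natY_spec _ hvr).1, h, one_mul]
  rw [natM_eq_iff] at e1
  have hm := match_ok
  simp only [List.all_eq_true, Bool.or_eq_true, List.any_eq_true, List.mem_range, bne_iff_ne] at hm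
  rcases hm u hu v hv with ⟨i, hi, j, hj, e⟩ | e
  · exact absurd (e1 i hi j hj) e
  · have e2 : PZ u = PZ v.reverse := pat_eq_of_chkSame ops_ok e
    rw [PZ_reverse v hv'] at e2
    rw [PZ, pat_append, ← PZ, ← PZ, e2, inv_mul_cancel]

end CfsgLib.ESixFive
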