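import Cfsg.Agent.ESixFive.Data
import Cfsg.Agent.GraphTwist.DataE6
import Cfsg.Agent.Chevalley.Bruhat

/-!
# The Weyl elements fixing a regular combination of two orthogonal coroots modulo five

The stabiliser in `W(E₆)` of the residues modulo five of the pairings with `p₁ + 2 p₆` is the group
generated by three orthogonal-to-both reflections: it has 24 elements, found by a search over the
images of the fundamental roots and separated from the outer automorphism modulo three.
-/

set_option autoImplicit false
set_option maxRecDepth 20000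

namespace CfsgLib.ESixFive

open Cfsg.Lie CfsgLib.Chevalley CfsgLib.GraphTwist CfsgLib.Weyl

/-- A root by its index. -/
abbrev rt (n : ℕ) (h : n < 72 := by decide) : Root chevE6 := ⟨n, h⟩

/-- The coordinates of a root on the fundamental roots. -/
def cv (r : ℕ) (j : Fin 6) : ℤ := ((rootBits >>> (24 * r + 4 * (j : ℕ))) % 16 : ℕ) - 8

theorem cv_tab : ((List.range 72).all fun r => (List.finRange 6).all fun j =>
    decide (cv r j = corootAt chevE6 r j)) = true := by
  decide +kernel

theorem cv_eq (r : Root chevE6) (j : Fin 6) : cv r j = corootAt chevE6 r j := by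
  have h := cv_tab
  simp only [List.all_eq_true, List.mem_range, List.mem_finRange, forall_const, decide_eq_true_eq] at h
  exact h r r.2 j

/-- The Cartan form of type `E₆`. -/
def bf (x y : Fin 6 → ℤ) : ℤ :=
  2 * (x 0 * y 0 + x 1 * y 1 + x 2 * y 2 + x 3 * y 3 + x 4 * y 4 + x 5 * y 5) -
    (x 0 * y 2 + x 2 * y 0 + (x 2 * y 3 + x 3 * y 2) + (x 3 * y 4 + x 4 * y 3) +
      (x 4 * y 5 + x 5 * y 4) + (x 1 * y 3 + x 3 * y 1))

/-- A fundamental coordinate vector. -/
def ev (i : Fin 6) (j : Fin 6) : ℤ := if i = j then 1 else 0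

theorem refl_tab : ((List.finRange 6).all fun i => (List.range 72).all fun r =>
    (List.finRange 6).all fun j => decide (cv (rstep reflTableE6 i r) j =
      cv r j - ev i j * bf (cv r) (ev i))) = true := by
  decide +kernel

theorem bf_reflect (i : Fin 6) (x y : Fin 6 → ℤ) :
    bf (fun j => x j - ev i j * bf x (ev i)) (fun j => y j - ev i j * bf y (ev i)) = bf x y := by
  fin_cases i <;> simp [bf, ev] <;> ring

theorem cv_simple : ((List.finRange 6).all fun k => (List.finRange 6).all fun j =>
    decide (cv (chevE6.simple k) j = ev k j)) = true := by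
  decide +kernel

theorem cv_injective_tab : ((List.range 72).all fun r => (List.range 72).all fun s =>
    decide (r = s) || (List.finRange 6).any fun j => !decide (cv r j = cv s j)) = true := by
  decide +kernel

theorem cartan_tab : ((List.finRange 6).all fun k => (List.range 72).all fun r =>
    decide (chevE6.cartan k r = bf (cv r) (ev k))) = true := by
  decide +kernel

theorem cartan_eq (k : Fin 6) (r : Root chevE6) : chevE6.cartan k r = bf (cv r) (ev k) := by
  have h := cartan_tab
  simp only [List.all_eq_true, List.mem_finRange, forall_const, List.mem_range, decide_eq_true_eq] at h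
  exact h k r r.2

theorem root_ext {r s : Root chevE6} (h : ∀ j, cv r j = cv s j) : r = s := by
  have ht := cv_injective_tab
  simp only [List.all_eq_true, List.mem_range, Bool.or_eq_true, decide_eq_true_eq, List.any_eq_true,
    List.mem_finRange, true_and, Bool.not_eq_true', decide_eq_false_iff_not] at ht
  rcases ht r r.2 s s.2 with e | ⟨j, hj⟩
  · exact Fin.ext e
  · exact absurd (h j) hj

/-- The permutation of the roots given by an element of the Weyl group. -/
noncomputable abbrev wR (w : setupE6.W.Group) : Equiv.Perm (Root chevE6) :=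
  setupE6.rootGood.rootPerm w

/-- A fundamental root. -/
noncomputable abbrev sR (k : Fin 6) : Root chevE6 := setupE6.rootGood.simpleRoot k

theorem cv_step (i : Fin chevE6.rank) (w : setupE6.W.Group) (r : Root chevE6) (j : Fin 6) :
    cv (wR (setupE6.W.simple i * w) r) j =
      cv (wR w r) j - ev (Fin.cast rfl i) j * bf (cv (wR w r)) (ev (Fin.cast rfl i)) := by
  have h := refl_tab
  simp only [List.all_eq_true, List.mem_finRange, forall_const, List.mem_range, decide_eq_true_eq] at h
  have e : (wR (setupE6.W.simple i * w) r : ℕ) = rstep reflTableE6 i (wR w r) := by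
    show ((setupE6.rootGood.rootPerm (setupE6.W.simple i * w)) r : ℕ) = _
    rw [map_mul, Equiv.Perm.mul_apply]
    exact setupE6.rootGood.rootPerm_simple_step i _
  rw [e]
  exact h (Fin.cast rfl i) _ (wR w r).2 j

theorem cv_sR (k j : Fin 6) : cv (sR k) j = ev k j := by
  have h := cv_simple
  simp only [List.all_eq_true, List.mem_finRange, forall_const, decide_eq_true_eq] at h
  exact h k j

theorem bf_wR (w : setupE6.W.Group) (r s : Root chevE6) :
    bf (cv (wR w r)) (cv (wR w s)) = bf (cv r) (cv s) := by
  induction w using setupE6.W.toCoxeterSystem.simple_induction_left generalizing r s with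
  | one => simp [wR]
  | mul_simple_left w i ih => ?_
  rw [CoxeterMatrix.toCoxeterSystem_simple, funext (cv_step i w r), funext (cv_step i w s),
    bf_reflect]
  exact ih r s

/-- The kernel of the pairing modulo three. -/
def v3 : Fin 6 → ℤ := ![1, 0, 2, 0, 1, 2]

theorem bf_v3 (i : Fin 6) (S : Fin 6 → ℤ) (h : ∀ j, S j % 3 = v3 j % 3) : bf S (ev i) % 3 = 0 := by
  have h0 := h 0; have h1 := h 1; have h2 := h 2; have h3 := h 3; have h4 := h 4; have h5 := h 5
  simp [v3] at h0 h1 h2 h3 h4 h5
  fin_cases i <;> simp [bf, ev] <;> omega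

/-- The combination of the images with coefficients `v3`. -/
def comb (x : Fin 6 → Fin 6 → ℤ) (j : Fin 6) : ℤ :=
  x 0 j * v3 0 + x 1 j * v3 1 + x 2 j * v3 2 + x 3 j * v3 3 + x 4 j * v3 4 + x 5 j * v3 5

theorem comb_reflect (i : Fin 6) (x : Fin 6 → Fin 6 → ℤ) (h : ∀ j, comb x j % 3 = v3 j % 3) (j : Fin 6) :
    comb (fun k l => x k l - ev i l * bf (x k) (ev i)) j % 3 = v3 j % 3 := by
  have e : comb (fun k l => x k l - ev i l * bf (x k) (ev i)) j =
      comb x j - ev i j * bf (comb x) (ev i) := by
    simp only [comb, bf]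
    ring
  have hb := bf_v3 i (comb x) h
  rw [e]
  simp only [ev] at hb ⊢
  have := h j
  split_ifs <;> omega

theorem v3_wR (w : setupE6.W.Group) (j : Fin 6) :
    (cv (wR w (sR 0)) j * v3 0 + cv (wR w (sR 1)) j * v3 1 + cv (wR w (sR 2)) j * v3 2 +
      cv (wR w (sR 3)) j * v3 3 + cv (wR w (sR 4)) j * v3 4 + cv (wR w (sR 5)) j * v3 5) % 3 =
        v3 j % 3 := by
  induction w using setupE6.W.toCoxeterSystem.simple_induction_left generalizing j with
  | one =>
    simp only [wR, map_one, Equiv.Perm.one_apply, cv_sR]
    revert j; decide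
  | mul_simple_left w i ih => ?_
  simp only [CoxeterMatrix.toCoxeterSystem_simple, cv_step]
  exact comb_reflect (Fin.cast rfl i) (fun k => cv (wR w (sR k))) ih j

theorem cv_wR (w : setupE6.W.Group) (r : Root chevE6) (j : Fin 6) :
    cv (wR w r) j = ∑ k : Fin 6, cv r k * cv (wR w (sR k)) j := by
  have hv : ∀ s : Root chevE6, cv s j = rootPair (Pi.single j 1 : Fin chevE6.rank → ℤ) s :=
    fun s => (cv_eq s j).trans (RootGood.pair_simple_coroot s j).symm
  rw [hv, setupE6.rootGood.pair_symm, rootPair]
  refine Finset.sum_congr rfl fun k _ => ?_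
  rw [hv (wR w (sR k)), setupE6.rootGood.pair_symm, mul_comm]
  exact congrArg₂ (· * ·) (cv_eq r k).symm (setupE6.rootGood.pair_simple _ k).symm

theorem wR_ext {w w' : setupE6.W.Group} (h : ∀ k, wR w (sR k) = wR w' (sR k)) : w = w' := by
  refine setupE6.rootGood.rootPerm_injective (Equiv.ext fun r => root_ext fun j => ?_)
  show cv (wR w r) j = cv (wR w' r) j
  rw [cv_wR, cv_wR]
  simp only [h]

/-- The exponent of the torus element at a root. -/
def ex (r : ℕ) : ℤ := chevE6.cartan 0 r + 2 * chevE6.cartan 5 r

/-- The candidates for the image of a root. -/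
def cls (k : ℕ) : List ℕ := clsTab.getD k []

theorem cls_ok : ((List.range 6).all fun k => decide
    (cls k = (List.range 72).filter fun r => decide (ex r % 5 = ex (chevE6.simple k) % 5))) = true := by
  decide +kernel

theorem mem_cls {k r : ℕ} (hk : k < 6) :
    r ∈ cls k ↔ r < 72 ∧ ex r % 5 = ex (chevE6.simple k) % 5 := by
  have h := cls_ok
  simp only [List.all_eq_true, List.mem_range, decide_eq_true_eq] at h
  rw [h k hk]
  simp

/-- The Cartan form of two roots given by index. -/
def ipN (r s : ℕ) : ℤ := bf (cv r) (cv s)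

/-- The search over the images of the fundamental roots, the last one first. -/
def grow : ℕ → List (List ℕ)
  | 0 => [[]]
  | k + 1 => (grow k).flatMap fun img =>
      ((cls k).filter fun c => (List.range k).all fun i =>
        decide (ipN c (img.getD i 0) = ipN (chevE6.simple k) (chevE6.simple i))).map fun c => img ++ [c]

/-- The congruence modulo three of a list of images. -/
def chk3 (img : List ℕ) : Bool :=
  (List.finRange 6).all fun j => decide
    ((cv (img.getD 0 0) j * v3 0 + cv (img.getD 1 0) j * v3 1 + cv (img.getD 2 0) j * v3 2 +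
      cv (img.getD 3 0) j * v3 3 + cv (img.getD 4 0) j * v3 4 + cv (img.getD 5 0) j * v3 5) % 3 =
        v3 j % 3)

theorem search_ok : (((grow 6).filter chk3).all fun img => stab.any fun e => decide (e.2.2 = img)) = true := by
  decide +kernel

theorem stab_ok : (stab.all fun e => e.2.1.all (fun k => decide (k < 6)) &&
    decide (e.2.2 = (List.range 6).map fun k => rwalk reflTableE6 e.2.1 (chevE6.simple k))) = true := by
  decide +kernel

/-- The element of a word in the fundamental reflections. -/
noncomputable def wOf (ks : List ℕ) : setupE6.W.Group :=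
  (ks.map fun k => if h : k < 6 then setupE6.W.simple ⟨k, h⟩ else 1).prod

theorem wR_wOf : ∀ (ks : List ℕ), (∀ k ∈ ks, k < 6) → ∀ r : Root chevE6,
    (wR (wOf ks) r : ℕ) = rwalk reflTableE6 ks r
  | [], _, r => by simp [wOf, wR, rwalk]
  | k :: ks, h, r => by
    have hk : k < 6 := h k List.mem_cons_self
    rw [wOf, List.map_cons, List.prod_cons, dif_pos hk, rwalk]
    simp only [wR, map_mul, Equiv.Perm.mul_apply]
    rw [setupE6.rootGood.rootPerm_simple_step]
    have := wR_wOf ks (fun a ha => h a (List.mem_cons_of_mem _ ha)) r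
    rw [wR, wOf] at this
    rw [this]
    rfl

theorem mem_grow (w : setupE6.W.Group) (he : ∀ r, ex (wR w r) % 5 = ex r % 5) :
    ∀ (n : ℕ) (_hn : n ≤ 6),
      ((List.finRange 6).map fun k => (wR w (sR k) : ℕ)).take n ∈ grow n
  | 0, _ => by simp [grow]
  | n + 1, hn => by
    have ih := mem_grow w he n (by omega)
    set L := (List.finRange 6).map fun k => (wR w (sR k) : ℕ) with hL
    have hlen : n < L.length := by simp [hL]; omega
    have hget : ∀ i (hi : i < 6), L.getD i 0 = (wR w (sR ⟨i, hi⟩) : ℕ) := fun i hi => by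
      simp [hL, List.getD_eq_getElem?_getD, hi]
    rw [List.take_succ_eq_append_getElem hlen, grow, List.mem_flatMap]
    refine ⟨_, ih, List.mem_map.2 ⟨L[n], ?_, rfl⟩⟩
    have en : L[n] = (wR w (sR ⟨n, by omega⟩) : ℕ) := by simp [hL]
    simp only [List.mem_filter, List.mem_range, decide_eq_true_eq, List.all_eq_true, en,
      mem_cls (show n < 6 by omega)]
    refine ⟨⟨Fin.is_lt _, he _⟩, fun i hi => ?_⟩
    have ei : (List.take n L).getD i 0 = L.getD i 0 := by
      simp [List.getD_eq_getElem?_getD, hi]
    rw [ei, hget i (by omega)]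
    exact bf_wR w _ _

/-- An element of the stabiliser is one of the listed ones. -/
theorem exists_stab (w : setupE6.W.Group) (he : ∀ r, ex (wR w r) % 5 = ex r % 5) :
    ∃ e ∈ stab, w = wOf e.2.1 := by
  set L := (List.finRange 6).map fun k => (wR w (sR k) : ℕ) with hL
  have hget : ∀ i (hi : i < 6), L.getD i 0 = (wR w (sR ⟨i, hi⟩) : ℕ) := fun i hi => by
    simp [hL, List.getD_eq_getElem?_getD, hi]
  have h1 := mem_grow w he 6 le_rfl
  rw [List.take_of_length_le (by simp)] at h1
  have h3 : chk3 L = true := by
    simp only [chk3, List.all_eq_true, List.mem_finRange, forall_const, decide_eq_true_eq]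
    intro j
    rw [hget 0 (by omega), hget 1 (by omega), hget 2 (by omega), hget 3 (by omega), hget 4 (by omega),
      hget 5 (by omega)]
    exact v3_wR w j
  have hs := search_ok
  simp only [List.all_eq_true, List.mem_filter, List.any_eq_true, decide_eq_true_eq] at hs
  obtain ⟨e, he', eL⟩ := hs L ⟨h1, h3⟩
  have ht := stab_ok
  simp only [List.all_eq_true, Bool.and_eq_true, decide_eq_true_eq] at ht
  obtain ⟨hlt, himg⟩ := ht e he'
  refine ⟨e, he', wR_ext fun k => Fin.ext ?_⟩
  rw [wR_wOf _ hlt, ← hget k k.2, ← eL, himg]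
  simp [List.getD_eq_getElem?_getD]
  rfl

end CfsgLib.ESixFive
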