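import Cfsg.Agent.ESixFive.Roots
import Cfsg.Agent.ESixFive.Natural
import Cfsg.Agent.Chevalley.RankOne
import Cfsg.Agent.Chevalley.BruhatUnique
import Cfsg.Agent.ChevSimple.Basic
import Cfsg.Agent.TwistInvol.Words

/-!
# The centraliser of a torus element of order five fixed by a twisted Frobenius map

Over a field of characteristic two the torus element `t = h₁(ζ) h₆(ζ²)` is centralised only by
elements `τ u n v` in Bruhat form; those fixed by the twisted Frobenius map composed with a
reflection have all parameters in the field with two elements and `τ` among fifteen elements.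
-/

set_option autoImplicit false
set_option maxRecDepth 20000
set_option linter.unusedSectionVars false

namespace CfsgLib.ESixFive

open Cfsg.Lie CfsgLib.Weyl CfsgLib.Chevalley CfsgLib.GraphTwist CfsgLib.UniInvol CfsgLib.TwistInvol CfsgLib.ChevSimple
open scoped MatrixGroups

local notation "SL₂[" L "]" => Matrix.SpecialLinearGroup (Fin 2) L

theorem six_ok : ((posR ++ sixR).all fun r => decide (r < 72) && decide (cfgE6.S.σf r = r) &&
    [56, 15].all (fun a => decide (r ≠ a) && decide (opp chevE6 a ≠ r) &&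
      decide (chevE6.commTerms a r = []))) = true := by
  decide +kernel

theorem gen_pairs_ok : ([56, 15].all fun a => [36, 35].all fun b => decide (b ≠ a) &&
    decide (opp chevE6 a ≠ b) && decide (chevE6.commTerms a b = [])) = true := by
  decide +kernel

theorem pi_ok : ([(56, 36), (36, 15), (42, 37), (37, 57)].all fun p =>
    decide (rstep reflTableE6 0 (cfgE6.S.σf p.1) = p.2)) = true := by
  decide +kernel

theorem add_ok : ((List.finRange 6).all fun k =>
    decide (chevE6.cartan k 57 = chevE6.cartan k 56 + chevE6.cartan k 42)) = true := by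
  decide +kernel

theorem ex_ok : ((List.range 36).all fun i => decide (i + 36 ∈ posR) || decide (ex (i + 36) % 5 ≠ 0)) = true := by
  decide +kernel

theorem filter_pos : (List.range' 36 36).filter (fun j => decide (j ∈ posR)) = posR := by
  decide +kernel

theorem cartan_sum : ((List.finRange 6).all fun k => (List.range 72).all fun r => decide (chevE6.cartan k r =
    cv r 0 * chevE6.cartan k (chevE6.simple 0) + cv r 1 * chevE6.cartan k (chevE6.simple 1) +
    cv r 2 * chevE6.cartan k (chevE6.simple 2) + cv r 3 * chevE6.cartan k (chevE6.simple 3) +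
    cv r 4 * chevE6.cartan k (chevE6.simple 4) + cv r 5 * chevE6.cartan k (chevE6.simple 5))) = true := by
  decide +kernel

theorem stab_words_ok : (stab.all fun e => e.1.all (fun r => decide (r ∈ sixR)) &&
    chkSame chevE6 TwistInvol.E6.ops e.1
      (e.2.1.flatMap fun k => [chevE6.simple k, opp chevE6 (chevE6.simple k), chevE6.simple k])) = true := by
  decide +kernel

variable {L : Type*} [Field L]

/-- The root element of a root. -/
abbrev XL (r : Root chevE6) (u : L) : GL chevE6.Idx L := X setupE6.good.good r u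

theorem commute_X {a b : Root chevE6} (h1 : (b : ℕ) ≠ a) (h2 : opp chevE6 a ≠ b)
    (h3 : chevE6.commTerms a b = []) (s u : L) : Commute (XL a s) (XL b u) := by
  have := X_comm setupE6.good.toGoodComm a b (fun e => h1 (congrArg Fin.val e))
    (fun e => h2 (by rw [e, Setup.rev_val])) s u
  rw [commRhs, h3] at this
  simpa [wordGL, Commute, SemiconjBy] using this.symm

theorem sl2_induction {P : SL₂[L] → Prop} (hu : ∀ u, P (RankOneRel.uMat L u))
    (hv : ∀ u, P (RankOneRel.vMat L u)) (hm : ∀ a b, P a → P b → P (a * b)) (g : SL₂[L]) : P g := by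
  have hone : P 1 := by
    have e : RankOneRel.uMat L 0 = 1 := Subtype.ext (by simp [RankOneRel.uMat_val, Matrix.one_fin_two])
    exact e ▸ hu 0
  have hw : P (RankOneRel.wMat L) := by
    have e : RankOneRel.wMat L = RankOneRel.uMat L 1 * RankOneRel.vMat L (-1) * RankOneRel.uMat L 1 := by
      apply Subtype.ext
      show _ = _ * _ * _
      simp [RankOneRel.uMat_val, RankOneRel.vMat_val, RankOneRel.wMat_val]
    exact e ▸ hm _ _ (hm _ _ (hu 1) (hv (-1))) (hu 1)
  have h : g ∈ Submonoid.closure (Set.range (RankOneRel.uMat L) ∪ {RankOneRel.wMat L}) :=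
    RankOneRel.closure_eq_top (F := L) ▸ Submonoid.mem_top g
  induction h using Submonoid.closure_induction with
  | mem x hx =>
    rcases hx with ⟨u, rfl⟩ | hx
    · exact hu u
    · rw [Set.mem_singleton_iff.1 hx]; exact hw
  | one => exact hone
  | mul a b _ _ ha hb => exact hm a b ha hb

/-- The homomorphism of `SL₂` at `p₁`. -/
noncomputable def φA : SL₂[L] →* GL chevE6.Idx L := (rankOneAt setupE6.good L ⟨0, by decide⟩).hom

/-- The homomorphism of `SL₂` at `p₆`. -/
noncomputable def φB : SL₂[L] →* GL chevE6.Idx L := (rankOneAt setupE6.good L ⟨5, by decide⟩).hom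

theorem pRoot_vals : pRoot setupE6.good (⟨0, by decide⟩ : Fin chevE6.rank) = rt 56 ∧
    pRoot setupE6.good (⟨5, by decide⟩ : Fin chevE6.rank) = rt 36 ∧
    (rt 56).rev = rt 15 ∧ (rt 36).rev = rt 35 := by
  refine ⟨Fin.ext ?_, Fin.ext ?_, ?_, ?_⟩ <;> decide

theorem φA_u (u : L) : φA (RankOneRel.uMat L u) = XL (rt 56) u :=
  ((rankOneAt setupE6.good L _).map_uMat u).trans (congrArg (fun r => XL r u) pRoot_vals.1)

theorem φA_v (u : L) : φA (RankOneRel.vMat L u) = XL (rt 15) u :=
  ((rankOneAt setupE6.good L _).map_vMat u).trans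
    (congrArg (fun r => XL r u) ((congrArg Fin.rev pRoot_vals.1).trans pRoot_vals.2.2.1))

theorem φB_u (u : L) : φB (RankOneRel.uMat L u) = XL (rt 36) u :=
  ((rankOneAt setupE6.good L _).map_uMat u).trans (congrArg (fun r => XL r u) pRoot_vals.2.1)

theorem φB_v (u : L) : φB (RankOneRel.vMat L u) = XL (rt 35) u :=
  ((rankOneAt setupE6.good L _).map_vMat u).trans
    (congrArg (fun r => XL r u) ((congrArg Fin.rev pRoot_vals.2.1).trans pRoot_vals.2.2.2))

theorem commute_gen {x y : Root chevE6} (hx : (x : ℕ) ∈ [56, 15]) (hy : (y : ℕ) ∈ [36, 35]) (s u : L) :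
    Commute (XL x s) (XL y u) := by
  have h := gen_pairs_ok
  simp only [Bool.and_eq_true, List.all_eq_true, decide_eq_true_eq] at h
  obtain ⟨⟨h1, h2⟩, h3⟩ := h x hx y hy
  exact commute_X h1 h2 h3 s u

theorem commute_φA_v_u (a : SL₂[L]) (u : L) :
    Commute (φA a) (XL (rt 36) u) ∧ Commute (φA a) (XL (rt 35) u) := by
  refine sl2_induction (P := fun a => Commute (φA a) (XL (rt 36) u) ∧ Commute (φA a) (XL (rt 35) u))
    (fun s => ?_) (fun s => ?_)
    (fun c d hc hd => by rw [map_mul]; exact ⟨hc.1.mul_left hd.1, hc.2.mul_left hd.2⟩) a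
  · rw [φA_u]; exact ⟨commute_gen (by simp) (by simp) s u, commute_gen (by simp) (by simp) s u⟩
  · rw [φA_v]; exact ⟨commute_gen (by simp) (by simp) s u, commute_gen (by simp) (by simp) s u⟩

theorem commute_φA_φB (a b : SL₂[L]) : Commute (φA a) (φB b) := by
  refine sl2_induction (P := fun b => Commute (φA a) (φB b)) (fun u => ?_) (fun u => ?_)
    (fun c d hc hd => (map_mul φB c d).symm ▸ hc.mul_right hd) b
  · rw [φB_u]; exact (commute_φA_v_u a u).1
  · rw [φB_v]; exact (commute_φA_v_u a u).2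

theorem commute_six {x r : Root chevE6} (hx : (x : ℕ) ∈ [56, 15]) (hr : (r : ℕ) ∈ posR ++ sixR) (u s : L) :
    Commute (XL x u) (XL r s) := by
  have h := six_ok
  simp only [Bool.and_eq_true, List.all_eq_true, decide_eq_true_eq] at h
  obtain ⟨⟨h1, h2⟩, h3⟩ := (h r hr).2 x hx
  exact commute_X h1 h2 h3 u s

theorem commute_φA_six {r : Root chevE6} (hr : (r : ℕ) ∈ posR ++ sixR) (s : L) (a : SL₂[L]) :
    Commute (φA a) (XL r s) := by
  refine sl2_induction (P := fun a => Commute (φA a) (XL r s)) (fun u => ?_) (fun u => ?_)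
    (fun c d hc hd => by rw [map_mul]; exact hc.mul_left hd) a
  · rw [φA_u]; exact commute_six (by simp) hr u s
  · rw [φA_v]; exact commute_six (by simp) hr u s

theorem σR_six {r : Root chevE6} (hr : (r : ℕ) ∈ posR ++ sixR) : setupE6.σR r = r := by
  have h := six_ok
  simp only [Bool.and_eq_true, List.all_eq_true, decide_eq_true_eq] at h
  exact Fin.ext ((Setup.σR_val _ r).trans (h r hr).1.2)

variable [CharP L 2]

/-- The graph symmetry after the Frobenius map. -/
noncomputable def twF : GL chevE6.Idx L →* GL chevE6.Idx L :=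
  (Units.mapEquiv (setupE6.valid.ok.conj L)).toMonoidHom.comp
    (Matrix.GeneralLinearGroup.map (frobenius L 2))

theorem twF_X (r : Root chevE6) (u : L) : twF (XL r u) = XL (setupE6.σR r) (u ^ 2) := by
  show Units.mapEquiv (setupE6.valid.ok.conj L) (Matrix.GeneralLinearGroup.map (frobenius L 2) (XL r u)) = _
  rw [X_map, frobenius_def]
  apply Units.ext
  show setupE6.valid.ok.conj L ((XL r (u ^ 2) : GL chevE6.Idx L) : Matrix chevE6.Idx chevE6.Idx L) = _
  rw [coe_X, ← x_eq_xR setupE6.good.good, setupE6.valid.ok.conj_x L r.2,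
    intCast_of_sq (setupE6.valid.ok.root r.2).2.2.2.2.1, one_mul, coe_X]
  exact x_eq_xR setupE6.good.good L (setupE6.σR r) _

/-- The Frobenius map of `SL₂`. -/
noncomputable def frobSL : SL₂[L] →* SL₂[L] := Matrix.SpecialLinearGroup.map (frobenius L 2)

theorem frobSL_apply (g : SL₂[L]) (i j : Fin 2) : (frobSL g).1 i j = g.1 i j ^ 2 :=
  frobenius_def 2 _

theorem frobSL_u (u : L) : frobSL (RankOneRel.uMat L u) = RankOneRel.uMat L (u ^ 2) := by
  apply Subtype.ext
  ext i j
  fin_cases i <;> fin_cases j <;> simp [frobSL, RankOneRel.uMat_val, frobenius_def]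

theorem frobSL_v (u : L) : frobSL (RankOneRel.vMat L u) = RankOneRel.vMat L (u ^ 2) := by
  apply Subtype.ext
  ext i j
  fin_cases i <;> fin_cases j <;> simp [frobSL, RankOneRel.vMat_val, frobenius_def]

theorem σR_vals : setupE6.σR (rt 56) = rt 36 ∧ setupE6.σR (rt 36) = rt 56 ∧
    setupE6.σR (rt 15) = rt 35 ∧ setupE6.σR (rt 35) = rt 15 := by
  refine ⟨Fin.ext ?_, Fin.ext ?_, Fin.ext ?_, Fin.ext ?_⟩ <;>
    · rw [Setup.σR_val]; decide

theorem twF_φA (a : SL₂[L]) : twF (φA a) = φB (frobSL a) := by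
  refine sl2_induction (P := fun a => twF (φA a) = φB (frobSL a)) (fun u => ?_) (fun u => ?_)
    (fun c d hc hd => by simp only [map_mul, hc, hd]) a
  · rw [φA_u, twF_X, σR_vals.1, frobSL_u, φB_u]
  · rw [φA_v, twF_X, σR_vals.2.2.1, frobSL_v, φB_v]

theorem twF_φB (a : SL₂[L]) : twF (φB a) = φA (frobSL a) := by
  refine sl2_induction (P := fun a => twF (φB a) = φA (frobSL a)) (fun u => ?_) (fun u => ?_)
    (fun c d hc hd => by simp only [map_mul, hc, hd]) a
  · rw [φB_u, twF_X, σR_vals.2.1, frobSL_u, φA_u]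
  · rw [φB_v, twF_X, σR_vals.2.2.2, frobSL_v, φA_v]

/-- A cube root of unity and a fifth root of unity over it. -/
structure Param (L : Type*) [Field L] where
  /-- the cube root of unity -/
  om : L
  /-- the fifth root of unity -/
  z : Lˣ
  om_sq : om ^ 2 = om + 1
  z_sq : (z : L) ^ 2 = om * z + 1

namespace Param

variable (p : Param L)

theorem two_eq : (2 : L) = 0 := CharTwo.two_eq_zero

theorem z_pow_five : p.z ^ 5 = 1 := by
  apply Units.ext
  have h2 := two_eq (L := L)
  rw [Units.val_pow_eq_pow_val, Units.val_one]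
  have h := p.z_sq; have ho := p.om_sq
  linear_combination ((p.z : L) ^ 3 + p.om * (p.z : L) ^ 2 + (p.om ^ 2 + 1) * (p.z : L) + (p.om ^ 3 + 2 * p.om)) * h +
    ((p.om ^ 2 + p.om + 5) * (p.z : L) + (p.om + 1)) * ho + (3 * p.om * (p.z : L) + 3 * (p.z : L) + 2 * p.om) * h2

theorem z_ne_one : p.z ≠ 1 := by
  intro e
  have h := p.z_sq; have ho := p.om_sq
  rw [e, Units.val_one] at h
  have : p.om = 0 := by linear_combination -h
  rw [this] at ho
  simp at ho

theorem orderOf_z : orderOf p.z = 5 :=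
  haveI : Fact (Nat.Prime 5) := ⟨by norm_num⟩
  orderOf_eq_prime p.z_pow_five p.z_ne_one

theorem zpow_eq_zpow_iff {a b : ℤ} : p.z ^ a = p.z ^ b ↔ a % 5 = b % 5 := by
  rw [_root_.zpow_eq_zpow_iff_modEq, p.orderOf_z]
  exact Iff.rfl

theorem z_inv : ((p.z⁻¹ : Lˣ) : L) = (p.z : L) + p.om := by
  have h2 := two_eq (L := L)
  apply mul_left_cancel₀ p.z.ne_zero
  rw [← Units.val_mul, mul_inv_cancel, Units.val_one]
  linear_combination -p.z_sq - p.om * (p.z : L) * h2

/-- The eigenvectors. -/
noncomputable def eigM : SL₂[L] :=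
  ⟨!![1, p.om + 1; p.om + 1 + p.z, (p.om + 1) * (p.om + 1 + ((p.z⁻¹ : Lˣ) : L))], by
    rw [Matrix.det_fin_two_of, p.z_inv]
    have h2 := two_eq (L := L)
    linear_combination (p.om : L) ^ 0 * p.om_sq + (p.om + 1) * 0 * h2 + p.om * h2⟩

/-- The diagonalised element. -/
noncomputable def dM : SL₂[L] :=
  ⟨!![(p.z : L), 0; 0, ((p.z⁻¹ : Lˣ) : L)], by
    rw [Matrix.det_fin_two_of, mul_zero, sub_zero, ← Units.val_mul, mul_inv_cancel, Units.val_one]⟩

/-- The monomial factor. -/
noncomputable def wM : SL₂[L] :=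
  ⟨!![0, p.om + 1; p.om, 0], by
    rw [Matrix.det_fin_two_of]
    have h2 := two_eq (L := L)
    linear_combination -p.om_sq - (p.om + 1) * h2⟩

theorem eigM_conj : RankOneRel.uMat L 1 * RankOneRel.vMat L p.om * p.eigM = p.eigM * p.dM := by
  apply Subtype.ext
  have h2 := two_eq (L := L)
  have hz := p.z_sq; have ho := p.om_sq; have hi := p.z_inv
  show _ * _ * _ = _ * _
  ext i j
  fin_cases i <;> fin_cases j <;>
    simp [RankOneRel.uMat_val, RankOneRel.vMat_val, eigM, dM, Matrix.mul_apply, Fin.sum_univ_two] <;> grind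

theorem frob_eigM : frobSL (frobSL p.eigM) = p.eigM * p.wM := by
  apply Subtype.ext
  have h2 := two_eq (L := L)
  have hz := p.z_sq; have ho := p.om_sq; have hi := p.z_inv
  ext i j
  rw [frobSL_apply, frobSL_apply]
  show _ = (_ * _ : Matrix (Fin 2) (Fin 2) L) i j
  fin_cases i <;> fin_cases j <;>
    simp [eigM, wM, Matrix.mul_apply, Fin.sum_univ_two] <;> grind

/-- The conjugating element. -/
noncomputable def hh : GL chevE6.Idx L := φA p.eigM * φB (frobSL p.eigM)

/-- The monomial correction. -/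
noncomputable def n0 : GL chevE6.Idx L := φA p.wM

theorem twF_hh : twF p.hh = p.hh * p.n0 := by
  rw [hh, map_mul, twF_φA, twF_φB, p.frob_eigM, map_mul, n0]
  rw [← mul_assoc, (commute_φA_φB p.eigM (frobSL p.eigM)).symm.eq]

/-- The torus element. -/
noncomputable def tt : GL chevE6.Idx L := hT L (rt 56) p.z * hT L (rt 36) (p.z ^ 2)

theorem φA_dM : φA p.dM = hT L (rt 56) p.z := by
  show (rankOneAt setupE6.good L _).map p.dM = _
  rw [RankOneRel.map_lower _ _ (by simp [dM]) p.z (by simp [dM])]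
  simp [dM, rankOneAt, X_zero, pRoot_vals.1]

theorem φB_frob_dM : φB (frobSL p.dM) = hT L (rt 36) (p.z ^ 2) := by
  show (rankOneAt setupE6.good L _).map (frobSL p.dM) = _
  have e : ∀ i j, (frobSL p.dM).1 i j = p.dM.1 i j ^ 2 := frobSL_apply _
  rw [RankOneRel.map_lower _ _ (by rw [e]; simp [dM]) (p.z ^ 2) (by rw [e]; simp [dM]), e, e]
  simp [dM, rankOneAt, X_zero, pRoot_vals.2.1]

/-- The element of order five before diagonalising. -/
noncomputable def xx : GL chevE6.Idx L :=
  φA (RankOneRel.uMat L 1 * RankOneRel.vMat L p.om) * φB (RankOneRel.uMat L 1 * RankOneRel.vMat L (p.om ^ 2))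

theorem prod_mul (a b c d : SL₂[L]) : φA a * φB b * (φA c * φB d) = φA (a * c) * φB (b * d) := by
  rw [map_mul, map_mul]
  exact (commute_φA_φB c b).symm.mul_mul_mul_comm _ _

theorem conj_xx : p.hh⁻¹ * p.xx * p.hh = p.tt := by
  have e : frobSL (RankOneRel.uMat L 1 * RankOneRel.vMat L p.om) =
      RankOneRel.uMat L 1 * RankOneRel.vMat L (p.om ^ 2) := by
    rw [map_mul, frobSL_u, frobSL_v, one_pow]
  have key : p.xx * p.hh = p.hh * p.tt := by
    rw [xx, hh, tt, ← φA_dM, ← φB_frob_dM, prod_mul, prod_mul, ← e, ← map_mul, ← map_mul, p.eigM_conj]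
  rw [mul_assoc, key, inv_mul_cancel_left]

theorem monBy_n0 : MonBy setupE6.good p.n0 (wPerm setupE6.good ⟨0, by decide⟩) := by
  have hne : (-1 : L) / p.om ≠ 0 := by
    have : p.om ≠ 0 := fun e => by have := p.om_sq; rw [e] at this; simp at this
    simp [this]
  have ho : p.om ≠ 0 := fun e => by simp [e] at hne
  have e : p.n0 = hT L (pRoot setupE6.good ⟨0, by decide⟩) (Units.mk0 _ hne) * nR setupE6.good ⟨0, by decide⟩ := by
    show (rankOneAt setupE6.good L _).map p.wM = _
    rw [RankOneRel.map_big _ _ (by simpa [wM] using ho) (Units.mk0 _ hne) (by simp [wM])]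
    simp [wM, rankOneAt, X_zero]
  rw [e, ← one_mul (wPerm setupE6.good _)]
  exact (monBy_diag setupE6.good (hT_mem_diagonal setupE6.good _ _)).mul (monBy_nR setupE6.good _)

/-- The map whose fixed points are wanted. -/
noncomputable def FF : GL chevE6.Idx L →* GL chevE6.Idx L :=
  (MulAut.conj p.n0).toMonoidHom.comp twF

theorem FF_apply (g : GL chevE6.Idx L) : p.FF g = p.n0 * twF g * p.n0⁻¹ := rfl

theorem FF_six {r : Root chevE6} (hr : (r : ℕ) ∈ posR ++ sixR) (u : L) : p.FF (XL r u) = XL r (u ^ 2) := by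
  rw [FF_apply, twF_X, σR_six hr, n0, (commute_φA_six hr _ _).eq, mul_inv_cancel_right]

theorem FF_X (r : Root chevE6) : ∃ a : Lˣ, ∀ u : L,
    p.FF (XL r u) = XL (wPerm setupE6.good ⟨0, by decide⟩ (setupE6.σR r)) ((a : L) * u ^ 2) := by
  obtain ⟨a, ha⟩ := p.monBy_n0.conj_X (setupE6.σR r)
  exact ⟨a, fun u => by rw [FF_apply, twF_X]; exact ha (u ^ 2)⟩

theorem twF_diag {g : GL chevE6.Idx L} (hg : g ∈ chevE6.diagonalSubgroup L) :
    twF g ∈ chevE6.diagonalSubgroup L := by
  refine (show chevE6.diagonalSubgroup L ≤ (chevE6.diagonalSubgroup L).comap twF from ?_) hg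
  rw [diagonalSubgroup_eq setupE6.good, Subgroup.closure_le]
  rintro _ ⟨r, s, rfl⟩
  rw [SetLike.mem_coe, Subgroup.mem_comap, ← hElt_eq setupE6.good r s, map_mul,
    ← diagonalSubgroup_eq setupE6.good]
  have hn : ∀ a : Lˣ, twF (nElt setupE6.good.good r a) = nElt setupE6.good.good (setupE6.σR r) (a ^ 2) := by
    intro a
    simp only [nElt, map_mul, twF_X, Setup.σR_rev, Units.val_pow_eq_pow_val,
      ← inv_pow, CharTwo.neg_eq]
  rw [hn, hn, neg_one_sq]
  have h1 : (1 : Lˣ) = -1 := Units.ext (by simp [CharTwo.neg_eq])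
  rw [show nElt setupE6.good.good (setupE6.σR r) (1 : Lˣ) = nElt setupE6.good.good (setupE6.σR r) (-1 : Lˣ) by
    rw [← h1], hElt_eq setupE6.good]
  exact hT_mem_diagonal setupE6.good _ _

theorem FF_diag {g : GL chevE6.Idx L} (hg : g ∈ chevE6.diagonalSubgroup L) :
    p.FF g ∈ chevE6.diagonalSubgroup L := by
  have hn : p.n0 ∈ chevE6.monomialSubgroup L := by
    show (rankOneAt setupE6.good L _).map p.wM ∈ _
    have ho : p.om ≠ 0 := fun e => by have := p.om_sq; rw [e] at this; simp at this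
    rw [RankOneRel.map_big _ _ (by simpa [wM] using ho) (Units.mk0 (-1 / p.om) (by simp [ho])) (by simp [wM])]
    simp only [wM, rankOneAt, MonoidHom.coe_mk, OneHom.coe_mk]
    simp [X_zero]
    exact mul_mem (diag_le_monomial _ (hT_mem_diagonal setupE6.good _ _)) (nR_mem_monomial setupE6.good _)
  exact (Subgroup.mem_normalizer_iff.1 (Chevalley.monomial_le_normalizer setupE6.good hn) _).1 (twF_diag hg)

/-- The character of the torus element. -/
theorem tt_conj (r : Root chevE6) (u : L) :
    p.tt * XL r u * p.tt⁻¹ = XL r (((p.z ^ ex r : Lˣ) : L) * u) := by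
  have e : p.tt = torC chevE6 ((fun k : Fin chevE6.rank => p.z ^ (chevE6.coroot.getD (rt 56) #[]).getD k 0) *
      fun k : Fin chevE6.rank => (p.z ^ 2) ^ (chevE6.coroot.getD (rt 36) #[]).getD k 0) := by
    rw [tt, hT_eq_torC, hT_eq_torC, torC_mul]
  rw [e, torC_conj_X setupE6.good.good]
  congr 3
  show (∏ x : Fin 6, (p.z ^ (chevE6.coroot.getD ((rt 56 : Root chevE6) : ℕ) #[]).getD x 0 *
      (p.z ^ 2) ^ (chevE6.coroot.getD ((rt 36 : Root chevE6) : ℕ) #[]).getD x 0) ^ chevE6.cartan x r) = _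
  rw [Fin.prod_univ_six]
  have c : ∀ k : Fin 6, (chevE6.coroot.getD ((rt 56 : Root chevE6) : ℕ) #[]).getD k 0 = (if k = 0 then 1 else 0) ∧
      (chevE6.coroot.getD ((rt 36 : Root chevE6) : ℕ) #[]).getD k 0 = (if k = 5 then 1 else 0) := by
    decide +kernel
  simp only [(c _).1, (c _).2, Fin.reduceEq, if_false, if_true, zpow_zero, zpow_one, one_mul, mul_one,
    one_zpow]
  rw [← zpow_natCast, ← zpow_mul, ← zpow_add]
  rfl

theorem tt_mem_diag : p.tt ∈ chevE6.diagonalSubgroup L :=
  mul_mem (hT_mem_diagonal setupE6.good _ _) (hT_mem_diagonal setupE6.good _ _)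

end Param

/-- The ordered product over the six positive roots. -/
noncomputable def prodS (f : ℕ → L) : GL chevE6.Idx L := (posR.map fun r => xk setupE6.good r (f r)).prod

theorem prod_filter_one {α G : Type*} [Monoid G] (f : α → G) (q : α → Bool) :
    ∀ l : List α, (∀ a ∈ l, q a = false → f a = 1) → (l.map f).prod = ((l.filter q).map f).prod
  | [], _ => rfl
  | a :: l, h => by
    have ih := prod_filter_one f q l fun b hb => h b (List.mem_cons_of_mem _ hb)
    cases ha : q a
    · rw [List.filter_cons_of_neg (by simp [ha]), List.map_cons, List.prod_cons, h a List.mem_cons_self ha, one_mul, ih]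
    · rw [List.filter_cons_of_pos ha, List.map_cons, List.map_cons, List.prod_cons, List.prod_cons, ih]

theorem goodUni : GoodUni chevE6 := setupE6.good.toGoodUni

theorem prodFrom_eq_prodS {f : ℕ → L} (hf : ∀ j, 36 ≤ j → j < 72 → j ∉ posR → f j = 0) :
    prodFrom setupE6.good.good false f 36 36 = prodS f := by
  have e : ∀ j, j < 72 → X setupE6.good.good (rootOf setupE6.good.good false j) (f j) = xk setupE6.good j (f j) :=
    fun j hj => by rw [rootOf_false setupE6.good.good (show j < chevE6.nroots from hj), xk, dif_pos]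
  rw [prodFrom, prod_filter_one _ (fun j => decide (j ∈ posR)) _ (fun j hj hq => ?_), filter_pos, prodS]
  · refine congrArg List.prod (List.map_congr_left fun j hj => e j ?_)
    revert hj; revert j; decide
  · rw [List.mem_range'_1] at hj
    rw [hf j hj.1 (by omega) (by simpa using hq), X_zero]

/-- The parameters extended by zero. -/
def extZero (f : ℕ → L) (j : ℕ) : L := if j ∈ posR then f j else 0

theorem prodS_extZero (f : ℕ → L) : prodS (extZero f) = prodS f :=
  congrArg List.prod (List.map_congr_left fun r hr => by rw [extZero, if_pos hr])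

theorem prodS_injective {f g : ℕ → L} (h : prodS f = prodS g) : ∀ r ∈ posR, f r = g r := by
  intro r hr
  have e : ∀ a : ℕ → L, prodFrom setupE6.good.good false (extZero a) 36 36 = prodS a := fun a => by
    rw [prodFrom_eq_prodS (fun j _ _ hj => by rw [extZero, if_neg hj]), prodS_extZero]
  have hb : 36 ≤ r ∧ r < 72 := by revert hr; revert r; decide
  have := prodFrom_injective (b := false) goodUni 36 36 le_rfl rfl (extZero f) (extZero g)
    ((e f).trans (h.trans (e g).symm)) r hb.1 (by omega)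
  simpa [extZero, hr] using this

theorem map_prodS {H : Type*} [Group H] (φ : GL chevE6.Idx L →* H) (f : ℕ → L) :
    φ (prodS f) = (posR.map fun r => φ (xk setupE6.good r (f r))).prod := by
  rw [prodS, map_list_prod, List.map_map]; rfl

/-- A positive unipotent fixed by the torus element lives on the six roots. -/
theorem Param.exists_prodS (p : Param L) {u : GL chevE6.Idx L}
    (hu : u ∈ chevE6.posUnipotent L) (hc : p.tt * u * p.tt⁻¹ = u) : ∃ f, prodS f = u := by
  rw [posUnipotent_eq setupE6.good.good] at hu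
  obtain ⟨f, rfl⟩ := exists_prodFrom setupE6.good.toGoodComm 36 36 le_rfl rfl u hu
  refine ⟨f, (prodFrom_eq_prodS fun j hj hj' hn => ?_).symm⟩
  have e : prodFrom setupE6.good.good false (fun j => ((p.z ^ ex j : Lˣ) : L) * f j) 36 36 =
      prodFrom setupE6.good.good false f 36 36 := by
    refine Eq.trans ?_ hc
    rw [← MulAut.conj_apply, prodFrom, prodFrom, map_list_prod, List.map_map]
    refine congrArg List.prod (List.map_congr_left fun j hj => ?_)
    rw [List.mem_range'_1] at hj
    rw [Function.comp_apply, MulAut.conj_apply, rootOf_false setupE6.good.good (show j < chevE6.nroots by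
      show j < 72; omega), p.tt_conj]
  have h1 := prodFrom_injective (b := false) goodUni 36 36 le_rfl rfl _ _ e j hj (by omega)
  have h := ex_ok
  simp only [List.all_eq_true, Bool.or_eq_true, decide_eq_true_eq, List.mem_range] at h
  have h5 : ex j % 5 ≠ 0 := by
    rcases h (j - 36) (by omega) with h0 | h0 <;> rw [Nat.sub_add_cancel hj] at h0
    · exact absurd h0 hn
    · exact h0
  by_contra hne
  have : p.z ^ ex j = p.z ^ (0 : ℤ) := Units.ext (by
    rw [zpow_zero, Units.val_one]; exact mul_right_cancel₀ hne (h1.trans (one_mul _).symm))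
  exact h5 (p.zpow_eq_zpow_iff.1 this)

theorem exists_sublist {f : ℕ → L} (hf : ∀ r ∈ posR, f r = 0 ∨ f r = 1) :
    ∃ w ∈ posR.sublists, prodS f = pat L setupE6.good w := by
  classical
  refine ⟨posR.filter fun r => decide (f r = 1), List.mem_sublists.2 (List.filter_sublist), ?_⟩
  have : ∀ l : List ℕ, (∀ r ∈ l, f r = 0 ∨ f r = 1) →
      (l.map fun r => xk setupE6.good r (f r)).prod = pat L setupE6.good (l.filter fun r => decide (f r = 1)) := by
    intro l
    induction l with
    | nil => simp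
    | cons r l ih =>
      intro h
      rw [List.map_cons, List.prod_cons, ih fun a ha => h a (List.mem_cons_of_mem _ ha)]
      rcases h r List.mem_cons_self with e | e
      · rw [List.filter_cons_of_neg (by simp [e]), e]
        have : xk setupE6.good r (0 : L) = 1 := by rw [xk]; split <;> simp [X_zero]
        rw [this, one_mul]
      · rw [List.filter_cons_of_pos (by simp [e]), pat_cons, e]
  exact this posR hf

/-- The fifteen torus elements. -/
noncomputable def tauOf (a : Lˣ) : GL chevE6.Idx L :=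
  tor fun r : Root chevE6 => (a ^ 3) ^ cv r 0 * (1 : Lˣ) ^ cv r 1 * a ^ cv r 2 * (1 : Lˣ) ^ cv r 3 *
    (a ^ 2) ^ cv r 4 * (a ^ 6) ^ cv r 5

theorem chi_linear (c : Fin chevE6.rank → Lˣ) (r : Root chevE6) :
    chi c r = chi c (rt 56) ^ cv r 0 * chi c (rt 46) ^ cv r 1 * chi c (rt 42) ^ cv r 2 *
      chi c (rt 39) ^ cv r 3 * chi c (rt 37) ^ cv r 4 * chi c (rt 36) ^ cv r 5 := by
  simp only [chi, ← Finset.prod_zpow, ← Finset.prod_mul_distrib]
  refine Finset.prod_congr rfl fun k _ => ?_
  have h := cartan_sum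
  simp only [List.all_eq_true, List.mem_finRange, forall_const, List.mem_range, decide_eq_true_eq] at h
  have es : (chevE6.simple 0 = 56 ∧ chevE6.simple 1 = 46 ∧ chevE6.simple 2 = 42 ∧ chevE6.simple 3 = 39 ∧
    chevE6.simple 4 = 37 ∧ chevE6.simple 5 = 36) := by decide
  obtain ⟨e0, e1, e2, e3, e4, e5⟩ := es
  have hk := h (Fin.cast rfl k) r r.2
  rw [e0, e1, e2, e3, e4, e5] at hk
  refine (congrArg (fun x : ℤ => c k ^ x) hk).trans ?_
  simp only [zpow_add, ← zpow_mul]
  simp only [mul_comm (cv _ _)]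
  rfl

/-- The fixed elements of the centraliser of the torus element. -/
theorem Param.fixed_centralizer (p : Param L) {g : GL chevE6.Idx L} (hg : g ∈ chevE6.group L)
    (hc : p.tt * g * p.tt⁻¹ = g) (hF : p.FF g = g) :
    ∃ a : Lˣ, a ^ 15 = 1 ∧ ∃ u ∈ posR.sublists, ∃ e ∈ stab, ∃ v ∈ posR.sublists,
      g = tauOf a * pat L setupE6.good (u ++ e.1 ++ v) := by
  set hW := setupE6.good
  set hR := setupE6.rootGood
  obtain ⟨w, hw⟩ := exists_mem_cell hW hR hg
  obtain ⟨b, hb, u, hu, eg⟩ := exists_form hW hR w hw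
  obtain ⟨u1, hu1, τ, hτ, eb⟩ := (mem_borel_iff hW).1 hb
  set n := nW hW hR L w with hn
  have ht := p.tt_mem_diag
  have hs : n * p.tt⁻¹ * n⁻¹ ∈ chevE6.diagonalSubgroup L :=
    (Subgroup.mem_normalizer_iff.1 (Chevalley.monomial_le_normalizer hW (nW_mem hW hR w)) _).1 (inv_mem ht)
  have hu1' : p.tt * u1 * p.tt⁻¹ ∈ chevE6.posUnipotent L := by
    rw [posUnipotent_eq_rootGen hW.good] at hu1 ⊢
    exact diag_conj_rootGen hW ht hu1
  -- uniqueness of the form
  obtain ⟨ebb, euu⟩ := form_unique hW hR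
    (b := p.tt * u1 * p.tt⁻¹ * (p.tt * τ * (n * p.tt⁻¹ * n⁻¹))) (b' := b)
    (mul_mem (pos_le_borel _ hu1') (diag_le_borel _ (mul_mem (mul_mem ht hτ) hs))) hb
    (diag_conj_rootGen hW ht hu) hu
    (by rw [← hn, eg]; conv_rhs => rw [← hc, ← eg, ← eb]
        group)
  have huniq : ∀ {x x' : GL chevE6.Idx L} {d d' : GL chevE6.Idx L}, x ∈ chevE6.posUnipotent L →
      x' ∈ chevE6.posUnipotent L → d ∈ chevE6.diagonalSubgroup L → d' ∈ chevE6.diagonalSubgroup L →
      x * d = x' * d' → x = x' ∧ d = d' := by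
    intro x x' d d' hx hx' hd hd' e
    have h1 : x'⁻¹ * x ∈ chevE6.posUnipotent L ⊓ chevE6.diagonalSubgroup L :=
      Subgroup.mem_inf.2 ⟨mul_mem (inv_mem hx') hx, by
        rw [show x'⁻¹ * x = d' * d⁻¹ by rw [inv_mul_eq_iff_eq_mul, ← mul_assoc, ← e, mul_inv_cancel_right]]
        exact mul_mem hd' (inv_mem hd)⟩
    rw [pos_inf_diag hW, Subgroup.mem_bot, inv_mul_eq_one] at h1
    subst h1
    exact ⟨rfl, mul_left_cancel e⟩
  obtain ⟨eu1, eτ⟩ := huniq hu1' hu1 (mul_mem (mul_mem ht hτ) hs) hτ (ebb.trans eb.symm)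
  have hnt : n * p.tt⁻¹ * n⁻¹ = p.tt⁻¹ := by
    have h1 : p.tt * τ = τ * p.tt := diag_comm hW ht hτ
    rw [h1, mul_assoc] at eτ
    have h2 : p.tt * (n * p.tt⁻¹ * n⁻¹) = 1 := mul_left_cancel (eτ.trans (mul_one τ).symm)
    exact (inv_eq_of_mul_eq_one_right h2).symm
  have hnt' : n * p.tt * n⁻¹ = p.tt := by
    rw [show n * p.tt * n⁻¹ = (n * p.tt⁻¹ * n⁻¹)⁻¹ by group, hnt, inv_inv]
  -- the Weyl element fixes the exponents
  have hex : ∀ r, ex (wR w r) % 5 = ex r % 5 := by
    intro r
    obtain ⟨c, hc'⟩ := (monBy_nW (F := L) hW hR w).conj_X r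
    have h1 : n * (p.tt * XL r 1 * p.tt⁻¹) * n⁻¹ = p.tt * (n * XL r 1 * n⁻¹) * p.tt⁻¹ := by
      calc n * (p.tt * XL r 1 * p.tt⁻¹) * n⁻¹
          = (n * p.tt * n⁻¹) * (n * XL r 1 * n⁻¹) * (n * p.tt * n⁻¹)⁻¹ := by group
        _ = _ := by rw [hnt']
    rw [p.tt_conj, hc', hc', p.tt_conj] at h1
    have h2 : p.z ^ ex r = p.z ^ ex (wR w r) := Units.ext (mul_left_cancel₀ c.ne_zero (by
      have := X_injective hW.good _ h1
      simpa [mul_comm, mul_left_comm] using this))
    exact (p.zpow_eq_zpow_iff.1 h2).symm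
  obtain ⟨e, he, ew⟩ := exists_stab w hex
  have hs' := stab_words_ok
  simp only [List.all_eq_true, Bool.and_eq_true, decide_eq_true_eq] at hs'
  obtain ⟨he6, heq⟩ := hs' e he
  set N := pat L hW e.1 with hN
  have hst := stab_ok
  simp only [List.all_eq_true, Bool.and_eq_true, decide_eq_true_eq] at hst
  have hNm : N ∈ chevE6.monomialSubgroup L ∧ MonBy hW N (wR (wOf e.2.1)) := by
    rw [hN, pat_eq_of_chkSame ops_ok heq]
    have : ∀ ks : List ℕ, (∀ k ∈ ks, k < 6) →
        pat L hW (ks.flatMap fun k => [chevE6.simple k, opp chevE6 (chevE6.simple k), chevE6.simple k]) ∈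
          chevE6.monomialSubgroup L ∧
        MonBy hW (pat L hW (ks.flatMap fun k => [chevE6.simple k, opp chevE6 (chevE6.simple k), chevE6.simple k]))
          (wR (wOf ks)) := by
      intro ks
      induction ks with
      | nil => intro _; simp only [List.flatMap_nil, pat_nil, wOf, List.map_nil, List.prod_nil, wR, map_one]
               exact ⟨one_mem _, MonBy.one hW⟩
      | cons k ks ih =>
        intro hk
        obtain ⟨i1, i2⟩ := ih fun a ha => hk a (List.mem_cons_of_mem _ ha)
        have hk6 : k < 6 := hk k List.mem_cons_self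
        rw [List.flatMap_cons, pat_append, pat_nR (τ := setupE6) (⟨k, hk6⟩ : Fin chevE6.rank)]
        refine ⟨mul_mem (nR_mem_monomial hW _) i1, ?_⟩
        rw [wOf, List.map_cons, List.prod_cons, dif_pos hk6, wR, map_mul]
        exact (wPerm_eq_rootPerm hW hR (⟨k, hk6⟩ : Fin chevE6.rank) ▸ monBy_nR hW _).mul i2
    exact this _ (hst e he).1
  obtain ⟨k, hk, eNk⟩ := exists_eq_nW_mul (F := L) hW hR ⟨N, hNm.1⟩
  rw [weylHom_eq hW hR (w := w) (g := ⟨N, hNm.1⟩) (by rw [ew]; exact hNm.2)] at eNk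
  change N = n * k at eNk
  set k' := N * k⁻¹ * N⁻¹ with hk'
  have hk'd : k' ∈ chevE6.diagonalSubgroup L :=
    (Subgroup.mem_normalizer_iff.1 (Chevalley.monomial_le_normalizer hW hNm.1) _).1 (inv_mem hk)
  have hnN : n = k' * N := by rw [hk', eNk]; group
  -- Frobenius
  have hconju : p.tt * u * p.tt⁻¹ = u := euu
  obtain ⟨f1, hf1⟩ := p.exists_prodS hu1 eu1
  obtain ⟨f2, hf2⟩ := p.exists_prodS (uW_le_pos hW hR w hu) hconju
  have hmem6 : ∀ r ∈ posR, r < chevE6.nroots := by decide
  have hFS : ∀ f : ℕ → L, p.FF (prodS f) = prodS fun r => f r ^ 2 := fun f => by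
    rw [map_prodS]
    refine congrArg List.prod (List.map_congr_left fun r hr => ?_)
    rw [xk, dif_pos (hmem6 r hr), xk, dif_pos (hmem6 r hr)]
    exact p.FF_six (List.mem_append_left _ hr) _
  have hFu : p.FF u ∈ uW hW hR L w := by
    have e1 : Matrix.GeneralLinearGroup.map (frobenius L 2) (prodS f2) = prodS fun r => f2 r ^ 2 := by
      rw [map_prodS]
      refine congrArg List.prod (List.map_congr_left fun r hr => ?_)
      rw [xk, dif_pos (hmem6 r hr), xk, dif_pos (hmem6 r hr), X_map, frobenius_def]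
    rw [← hf2, hFS, ← e1, hf2]
    refine (show uW hW hR L w ≤ (uW hW hR L w).comap (Matrix.GeneralLinearGroup.map (frobenius L 2)) from ?_) hu
    refine rootGen_le hW.good fun r hr s => ?_
    rw [Subgroup.mem_comap, X_map]
    exact X_mem_rootGen _ hr _
  have hFN : p.FF N = N := by
    have : ∀ l : List ℕ, (∀ r ∈ l, r ∈ sixR) → p.FF (pat L hW l) = pat L hW l := by
      intro l
      induction l with
      | nil => intro _; simp
      | cons r l ih =>
        intro hl
        have h6 : r < chevE6.nroots :=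
          (show ∀ a ∈ sixR, a < chevE6.nroots by decide) r (hl r List.mem_cons_self)
        rw [pat_cons, map_mul, ih fun a ha => hl a (List.mem_cons_of_mem _ ha), xk, dif_pos h6]
        congr 1
        exact (p.FF_six (List.mem_append_right _ (hl r List.mem_cons_self)) 1).trans (by rw [one_pow])
    exact this _ he6
  set τ' := τ * k' with hτ'
  have hτ'd : τ' ∈ chevE6.diagonalSubgroup L := mul_mem hτ hk'd
  have eg' : g = u1 * τ' * N * u := by rw [← eg, ← eb, hnN, hτ']; group
  have hFu1 : p.FF u1 ∈ chevE6.posUnipotent L := by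
    rw [← hf1, hFS, ← prodFrom_eq_prodS (f := extZero fun r => f1 r ^ 2) (fun j _ _ hj => by rw [extZero, if_neg hj]) |>.trans
      (prodS_extZero _), posUnipotent_eq hW.good]
    exact prodFrom_mem _ _ le_rfl le_rfl
  have hNd : N * n⁻¹ ∈ chevE6.diagonalSubgroup L := by
    rw [hnN, mul_inv_rev, ← mul_assoc, mul_inv_cancel, one_mul]; exact inv_mem hk'd
  obtain ⟨eb2, eu2⟩ := form_unique hW hR
    (b := p.FF u1 * (p.FF τ' * (N * n⁻¹))) (b' := u1 * (τ' * (N * n⁻¹)))
    (mul_mem (pos_le_borel _ hFu1) (diag_le_borel _ (mul_mem (p.FF_diag hτ'd) hNd)))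
    (mul_mem (pos_le_borel _ hu1) (diag_le_borel _ (mul_mem hτ'd hNd))) hFu hu (by
      rw [← hn]
      calc p.FF u1 * (p.FF τ' * (N * n⁻¹)) * n * p.FF u
          = p.FF u1 * p.FF τ' * p.FF N * p.FF u := by rw [hFN]; group
        _ = p.FF (u1 * τ' * N * u) := by simp only [map_mul]
        _ = u1 * τ' * N * u := by rw [← eg', hF]
        _ = _ := by group)
  obtain ⟨eu1', eτ'⟩ := huniq hFu1 hu1 (mul_mem (p.FF_diag hτ'd) hNd) (mul_mem hτ'd hNd) eb2
  have hFτ : p.FF τ' = τ' := mul_right_cancel eτ'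
  have hbit : ∀ f : ℕ → L, p.FF (prodS f) = prodS f → ∀ r ∈ posR, f r = 0 ∨ f r = 1 := by
    intro f hf r hr
    have := prodS_injective ((hFS f).symm.trans hf) r hr
    rcases eq_or_ne (f r) 0 with h0 | h0
    · exact Or.inl h0
    · exact Or.inr (mul_left_cancel₀ h0 (by rw [mul_one, ← sq]; exact this))
  obtain ⟨wu, hwu, ewu⟩ := exists_sublist (hbit f1 (by rw [hf1]; exact eu1'))
  obtain ⟨wv, hwv, ewv⟩ := exists_sublist (hbit f2 (by rw [hf2]; exact eu2))
  -- the torus factor
  obtain ⟨c, hc0⟩ : τ' ∈ (torHom chevE6 L).range := by rw [← diagonalSubgroup_eq_range hW]; exact hτ'd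
  change torC chevE6 c = τ' at hc0
  have hchi : ∀ r : Root chevE6, chi c (wPerm hW ⟨0, by decide⟩ (setupE6.σR r)) = chi c r ^ 2 := by
    intro r
    obtain ⟨a, ha⟩ := p.FF_X r
    have h1 := congrArg p.FF (torC_conj_X hW.good c r (1 : L))
    rw [map_mul, map_mul, map_inv, hc0, hFτ, ha, ha, ← hc0, torC_conj_X hW.good, one_pow, mul_one,
      mul_one] at h1
    have h2 := X_injective hW.good _ h1
    refine Units.ext (mul_right_cancel₀ a.ne_zero (h2.trans ?_))
    rw [Units.val_pow_eq_pow_val, mul_comm]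
  have hpi : ∀ r : Root chevE6, (wPerm hW ⟨0, by decide⟩ (setupE6.σR r) : ℕ) =
      Weyl.rstep reflTableE6 0 (cfgE6.S.σf r) := by
    intro r
    rw [wPerm_eq_rootPerm hW hR]
    exact hR.rootPerm_simple_step _ _
  have hfixS : ∀ r : Root chevE6, (r : ℕ) ∈ posR → chi c r = 1 := by
    intro r hr
    have h1 := congrArg p.FF (torC_conj_X hW.good c r (1 : L))
    rw [map_mul, map_mul, map_inv, hc0, hFτ, p.FF_six (List.mem_append_left _ hr),
      p.FF_six (List.mem_append_left _ hr), ← hc0, torC_conj_X hW.good, one_pow, mul_one] at h1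
    have h2 : (chi c r : L) = (chi c r : L) ^ 2 := X_injective hW.good _ h1
    exact Units.ext (mul_left_cancel₀ (chi c r).ne_zero (by rw [Units.val_one, mul_one, ← sq]; exact h2.symm))
  have hro := pi_ok
  have hadd := add_ok
  simp only [List.all_eq_true, decide_eq_true_eq] at hro hadd
  have hpp : ∀ (x y : ℕ) (hx : x < 72) (hy : y < 72), (x, y) ∈ [(56, 36), (36, 15), (42, 37), (37, 57)] →
      chi c ⟨y, hy⟩ = chi c ⟨x, hx⟩ ^ 2 := fun x y hx hy hxy => by
    rw [← hchi ⟨x, hx⟩]
    exact congrArg _ (Fin.ext ((hpi ⟨x, hx⟩).trans (hro (x, y) hxy)).symm)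
  set a := chi c (rt 42) with ha
  have c37 : chi c (rt 37) = a ^ 2 := hpp 42 37 _ _ (by simp)
  have c57 : chi c (rt 57) = a ^ 4 := by rw [hpp 37 57 (by decide) (by decide) (by simp), c37, ← pow_mul]
  have c57' : chi c (rt 57) = chi c (rt 56) * a := by
    simp only [ha, chi, ← Finset.prod_mul_distrib, ← zpow_add]
    exact Finset.prod_congr rfl fun j _ => congrArg _ (hadd (Fin.cast rfl j) (List.mem_finRange _))
  have c56 : chi c (rt 56) = a ^ 3 := mul_right_cancel (b := a) (by rw [← c57', c57, ← pow_succ])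
  have c36 : chi c (rt 36) = a ^ 6 := by rw [hpp 56 36 (by decide) (by decide) (by simp), c56, ← pow_mul]
  have c15 : chi c (rt 15) = (a ^ 3)⁻¹ := by
    rw [← c56, ← pRoot_vals.2.2.1]
    simp only [chi, ← Finset.prod_inv_distrib, ← zpow_neg]
    exact Finset.prod_congr rfl fun j _ => by rw [hW.good.cartan_rev]
  have h15 : a ^ 15 = 1 := by
    have := hpp 36 15 (by decide) (by decide) (by simp)
    rw [c15, c36, ← pow_mul, inv_eq_iff_mul_eq_one, ← pow_add] at this
    exact this
  have hτa : τ' = tauOf a := by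
    rw [← hc0, tauOf]
    show tor (fun s => chi c s) = _
    congr 1
    funext r
    rw [chi_linear, c56, c37, c36, hfixS (rt 46) (by decide), hfixS (rt 39) (by decide)]
  refine ⟨a, h15, wu, hwu, e, he, wv, hwv, ?_⟩
  rw [pat_append, pat_append, ← ewu, ← ewv, hf1, hf2, ← hτa, eg']
  have hcomm : Commute τ' u1 := by
    rw [← hf1, prodS]
    refine Commute.list_prod_right _ _ fun x hx => ?_
    obtain ⟨r, hr, rfl⟩ := List.mem_map.1 hx
    rw [xk, dif_pos (hmem6 r hr), Commute, SemiconjBy, ← mul_inv_eq_iff_eq_mul, ← hc0,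
      torC_conj_X hW.good, hfixS ⟨r, hmem6 r hr⟩ hr, Units.val_one, one_mul]
  rw [hN, ← hcomm.eq]
  simp only [mul_assoc]

end CfsgLib.ESixFive
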